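import Mathlib

/-!
Binary affine groups, first part. `H` acts linearly and faithfully on a finite abelian group `V`, and the
affine group `V ⋊ H` is binary. For every `d` one element of `H` realises every translation by `d` that is
realised inside `H`; the elements with a maximal fixed space are then involutions, each determined by any
non-zero vector of its commutator space.
-/

set_option autoImplicit false
set_option linter.unusedSectionVars false

namespace Cfsg.Agent.BinaryAffine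

variable (H V : Type*) [Group H] [AddCommGroup V] [DistribMulAction H V]

/-- The affine group is binary. -/
def Bin : Prop :=
  ∀ (S : Set V) (f : V → V), (∀ x ∈ S, ∀ y ∈ S, ∃ h : H, h • (x - y) = f x - f y) →
    ∃ h : H, ∀ x ∈ S, ∀ y ∈ S, h • (x - y) = f x - f y

/-- No proper non-trivial invariant subgroup. -/
def Irr : Prop :=
  ∀ U : AddSubgroup V, (∀ h : H, ∀ u ∈ U, h • u ∈ U) → U = ⊥ ∨ U = ⊤

variable {H V}

/-- `h - 1`. -/
def dl (h : H) : V →+ V where
  toFun v := h • v - v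
  map_zero' := by simp
  map_add' a b := by rw [smul_add]; abel

variable (V) in
/-- The fixed space. -/
def Fx (h : H) : AddSubgroup V := (dl (V := V) h).ker

variable (V) in
/-- The commutator space. -/
def Im (h : H) : AddSubgroup V := (dl (V := V) h).range

theorem mem_fx {h : H} {v : V} : v ∈ Fx V h ↔ h • v = v := by
  simp [Fx, dl, sub_eq_zero]

theorem mem_im {h : H} {v : V} : v ∈ Im V h ↔ ∃ x : V, h • x = x + v := by
  simp only [Im, AddMonoidHom.mem_range, dl, AddMonoidHom.coe_mk, ZeroHom.coe_mk, sub_eq_iff_eq_add']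

theorem fx_im_card (h : H) : Nat.card (Fx V h) * Nat.card (Im V h) = Nat.card V := by
  have := AddSubgroup.card_mul_index (dl (V := V) h).ker
  rwa [AddSubgroup.index_ker] at this

variable [FaithfulSMul H V]

theorem ext_smul {h k : H} (e : ∀ v : V, h • v = k • v) : h = k :=
  FaithfulSMul.eq_of_smul_eq_smul e

theorem exists_move {h : H} (hh : h ≠ 1) : ∃ x d : V, d ≠ 0 ∧ h • x = x + d := by
  by_contra hc
  apply hh
  refine ext_smul (V := V) fun v => ?_
  rw [one_smul]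
  by_contra hv
  exact hc ⟨v, h • v - v, sub_ne_zero.mpr hv, by abel⟩

/-- One element realises all translations by `d`. -/
theorem exists_hd (hb : Bin H V) (d : V) :
    ∃ k : H, ∀ (h : H) (x : V), h • x = x + d → k • x = x + d := by
  classical
  let P : Set V := {x | ∃ h : H, h • x = x + d}
  obtain ⟨k, hk⟩ := hb (insert 0 P) (fun x => if x = 0 then 0 else x + d) (by
    intro x hx y hy
    by_cases hx0 : x = 0 <;> by_cases hy0 : y = 0 <;>
      simp only [hx0, hy0, if_true, if_false, sub_zero, zero_sub]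
    · exact ⟨1, by simp⟩
    · obtain ⟨h, hh⟩ := hy.resolve_left hy0
      exact ⟨h, by rw [smul_neg, hh]⟩
    · obtain ⟨h, hh⟩ := hx.resolve_left hx0
      exact ⟨h, hh⟩
    · exact ⟨1, by rw [one_smul]; abel⟩)
  refine ⟨k, fun h x hx => ?_⟩
  by_cases hx0 : x = 0
  · subst hx0
    rwa [smul_zero] at hx ⊢
  · simpa [hx0] using hk x (Set.mem_insert_of_mem _ ⟨h, hx⟩) 0 (Set.mem_insert _ _)

noncomputable def hd (hb : Bin H V) (d : V) : H := (exists_hd hb d).choose

variable (hb : Bin H V)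

theorem hd_spec {d x : V} {h : H} (hx : h • x = x + d) : hd hb d • x = x + d :=
  (exists_hd hb d).choose_spec h x hx

theorem hd_swap {d x : V} {h : H} (hx : h • x = x + d) : hd hb d • (x + d) = x := by
  have h2 : h⁻¹ • (-(x + d)) = -(x + d) + d := by
    rw [smul_neg, inv_smul_eq_iff.mpr hx.symm]; abel
  have h3 := hd_spec hb h2
  rw [smul_neg] at h3
  have h4 : -(hd hb d • (x + d)) = -x := h3.trans (by abel)
  exact neg_injective h4

theorem hd_neg {d x : V} {h : H} (hx : h • x = x + d) : hd hb d • d = -d := by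
  have h1 := hd_swap hb hx
  rw [smul_add, hd_spec hb hx] at h1
  have h2 : hd hb d • d + d = 0 := by
    apply add_left_cancel (a := x)
    rw [add_zero]
    exact (by abel : x + (hd hb d • d + d) = x + d + hd hb d • d).trans h1
  exact eq_neg_of_add_eq_zero_left h2

theorem hd_fix {d x : V} {h : H} (hx : h • x = x + d) : Fx V h ≤ Fx V (hd hb d) := by
  intro a ha
  rw [mem_fx] at ha ⊢
  have h1 : h • (x + a) = x + a + d := by rw [smul_add, hx, ha]; abel
  have h2 := hd_spec hb h1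
  rw [smul_add, hd_spec hb hx] at h2
  exact add_left_cancel (h2.trans (by abel : x + a + d = x + d + a))

theorem hd_ne_one {d x : V} {h : H} (hd0 : d ≠ 0) (hx : h • x = x + d) : hd hb d ≠ 1 := by
  intro e
  have := hd_spec hb hx
  rw [e, one_smul] at this
  exact hd0 (left_eq_add.mp this)

/-- A maximal fixed space. -/
structure Mx (V : Type*) [AddCommGroup V] [DistribMulAction H V] (g : H) : Prop where
  ne : g ≠ 1
  max : ∀ h : H, h ≠ 1 → Fx V g ≤ Fx V h → Fx V h ≤ Fx V g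

theorem exists_mx [Finite H] {h : H} (hh : h ≠ 1) : ∃ g : H, Mx V g ∧ Fx V h ≤ Fx V g := by
  have hfin : (Set.range fun g : {g : H // g ≠ 1 ∧ Fx V h ≤ Fx V g} => Fx V g.1).Finite :=
    Set.finite_range _
  obtain ⟨M, hM⟩ := hfin.exists_maximal ⟨_, ⟨⟨h, hh, le_rfl⟩, rfl⟩⟩
  obtain ⟨⟨g, hg, hhg⟩, rfl⟩ := hM.prop
  exact ⟨g, ⟨hg, fun k hk hle => hM.le_of_ge ⟨⟨k, hk, hhg.trans hle⟩, rfl⟩ hle⟩, hhg⟩

theorem Mx.fix_eq_one {g : H} (hg : Mx V g) {k : H} (hk : Fx V g ≤ Fx V k) {y : V}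
    (hy : y ∉ Fx V g) (hky : k • y = y) : k = 1 := by
  by_contra hk1
  exact hy (hg.max k hk1 hk (mem_fx.mpr hky))

theorem Mx.hd_eq {g : H} (hg : Mx V g) {d : V} (hd' : d ∈ Im V g) (hd0 : d ≠ 0) :
    hd hb d = g := by
  obtain ⟨y, hy⟩ := mem_im.mp hd'
  have hyn : y ∉ Fx V g := fun h => hd0 (left_eq_add.mp ((mem_fx.mp h).symm.trans hy))
  have key : g⁻¹ * hd hb d = 1 := by
    refine hg.fix_eq_one (fun a ha => ?_) hyn ?_
    · rw [mem_fx, mul_smul, mem_fx.mp (hd_fix hb hy ha), inv_smul_eq_iff]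
      exact (mem_fx.mp ha).symm
    · rw [mul_smul, hd_spec hb hy, inv_smul_eq_iff]
      exact hy.symm
  exact (inv_mul_eq_one.mp key).symm

include hb

/-- A realised translation in the commutator space of a maximal element is realised by it. -/
theorem Mx.spec {g : H} (hg : Mx V g) {d x : V} {h : H} (hd' : d ∈ Im V g) (hd0 : d ≠ 0)
    (hx : h • x = x + d) : g • x = x + d ∧ Fx V h ≤ Fx V g := by
  rw [← hg.hd_eq hb hd' hd0]
  exact ⟨hd_spec hb hx, hd_fix hb hx⟩

theorem Mx.neg {g : H} (hg : Mx V g) {d : V} (hd' : d ∈ Im V g) : g • d = -d := by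
  by_cases hd0 : d = 0
  · simp [hd0]
  · obtain ⟨y, hy⟩ := mem_im.mp hd'
    rw [← hg.hd_eq hb hd' hd0]
    exact hd_neg hb hy

theorem Mx.sq {g : H} (hg : Mx V g) : g * g = 1 := by
  obtain ⟨x, d, hd0, hx⟩ := exists_move (V := V) hg.ne
  refine hg.fix_eq_one (fun a ha => ?_) (fun h => hd0 (left_eq_add.mp ((mem_fx.mp h).symm.trans hx))) ?_
  · rw [mem_fx, mul_smul, mem_fx.mp ha, mem_fx.mp ha]
  · rw [mul_smul, hx, smul_add, hx, hg.neg hb (mem_im.mpr ⟨x, hx⟩)]
    abel

theorem Mx.inv_eq {g : H} (hg : Mx V g) : g⁻¹ = g :=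
  inv_eq_of_mul_eq_one_right (hg.sq hb)

theorem Mx.smul_smul {g : H} (hg : Mx V g) (v : V) : g • g • v = v := by
  rw [← mul_smul, hg.sq hb, one_smul]

theorem Mx.eq_of_im {g g' : H} (hg : Mx V g) (hg' : Mx V g') {d : V} (hd' : d ∈ Im V g)
    (hd'' : d ∈ Im V g') (hd0 : d ≠ 0) : g = g' := by
  rw [← hg.hd_eq hb hd' hd0, ← hg'.hd_eq hb hd'' hd0]

omit hb

theorem fx_conj {k g : H} {v : V} : v ∈ Fx V (k * g * k⁻¹) ↔ k⁻¹ • v ∈ Fx V g := by
  rw [mem_fx, mem_fx, mul_smul, mul_smul, eq_inv_smul_iff]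

theorem im_conj {k g : H} {v : V} : v ∈ Im V (k * g * k⁻¹) ↔ k⁻¹ • v ∈ Im V g := by
  rw [mem_im, mem_im]
  constructor
  · rintro ⟨x, hx⟩
    refine ⟨k⁻¹ • x, ?_⟩
    rw [mul_smul, mul_smul] at hx
    rw [eq_inv_smul_iff.mpr hx, smul_add]
  · rintro ⟨x, hx⟩
    refine ⟨k • x, ?_⟩
    rw [mul_smul, mul_smul, inv_smul_smul, hx, smul_add, smul_inv_smul]

theorem Mx.conj {g : H} (hg : Mx V g) (k : H) : Mx V (k * g * k⁻¹) := by
  refine ⟨fun h => hg.ne (conj_eq_one_iff.mp h), fun h hh hle v hv => ?_⟩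
  rw [fx_conj]
  have h' : k⁻¹ * h * k ≠ 1 := by
    intro e
    apply hh
    have h2 : k⁻¹ * h * (k⁻¹)⁻¹ = 1 := by rw [inv_inv]; exact e
    exact conj_eq_one_iff.mp h2
  refine hg.max _ h' (fun a ha => ?_) ?_
  · rw [mem_fx, mul_smul, mul_smul, inv_smul_eq_iff, ← mem_fx]
    apply hle
    rwa [fx_conj, inv_smul_smul]
  · rw [mem_fx, mul_smul, mul_smul, smul_inv_smul, mem_fx.mp hv]

include hb

/-- Fixing a non-zero commutator vector means centralising. -/
theorem Mx.commute_of_fix {g : H} (hg : Mx V g) {k : H} {d : V} (hd' : d ∈ Im V g) (hd0 : d ≠ 0)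
    (hk : k • d = d) : Commute k g := by
  have h1 : k * g * k⁻¹ = g := (hg.conj k).eq_of_im hb hg (by
    rw [im_conj, inv_smul_eq_iff.mpr hk.symm]; exact hd') hd' hd0
  exact mul_inv_eq_iff_eq_mul.mp h1

omit hb

theorem im_smul_of_commute {k g : H} (hc : Commute k g) {a : V} (ha : a ∈ Im V g) :
    k • a ∈ Im V g := by
  obtain ⟨x, hx⟩ := mem_im.mp ha
  refine mem_im.mpr ⟨k • x, ?_⟩
  rw [← mul_smul, ← hc.eq, mul_smul, hx, smul_add]

theorem fx_smul_of_commute {k g : H} (hc : Commute k g) {a : V} (ha : a ∈ Fx V g) :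
    k • a ∈ Fx V g := by
  rw [mem_fx] at ha ⊢
  rw [← mul_smul, ← hc.eq, mul_smul, ha]

include hb

theorem Mx.im_le_fx {s t : H} (hs : Mx V s) (ht : Mx V t) (hne : s ≠ t) (hc : Commute s t) :
    Im V t ≤ Fx V s := by
  intro a ha
  rw [mem_fx]
  by_contra h
  exact hne (hs.eq_of_im hb ht (d := s • a - a) (mem_im.mpr ⟨a, by abel⟩)
    ((Im V t).sub_mem (im_smul_of_commute hc ha) ha) (sub_ne_zero.mpr h))

theorem Mx.commute_of_inter {s t : H} (ht : Mx V t) {d : V} (hd' : d ∈ Im V t) (hs' : d ∈ Fx V s)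
    (hd0 : d ≠ 0) : Commute s t :=
  ht.commute_of_fix hb hd' hd0 (mem_fx.mp hs')

end Cfsg.Agent.BinaryAffine
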