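import Cfsg.Agent.Lib.BinaryAffine.Plane

/-!
Binary affine groups in the plane situation `|V| = Q²`: point stabilisers of non-zero vectors have order two,
there are `Q + 1` maximal involutions and they all invert the remaining `Q + 1` elements, which form an
abelian subgroup acting without fixed points.
-/

set_option autoImplicit false
set_option linter.unusedSectionVars false

namespace Cfsg.Agent.BinaryAffine

variable {H V : Type*} [Group H] [AddCommGroup V] [DistribMulAction H V] [FaithfulSMul H V]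
  [Finite H] [Finite V]

variable (H V) in
/-- The data of the plane situation. -/
structure Planar (Q : ℕ) : Prop where
  card_v : Nat.card V = Q * Q
  one_lt : 1 < Q
  card_im : ∀ w : H, Mx V w → Nat.card (Im V w) = Q
  spread : ∀ z : V, z ≠ 0 → ∃ v : H, Mx V v ∧ z ∈ Im V v
  fixed : ∀ z : V, z ≠ 0 → ∃ w : H, Mx V w ∧ z ∈ Fx V w
  uniq : ∀ z : V, z ≠ 0 → ∀ w w' : H, Mx V w → Mx V w' → z ∈ Fx V w → z ∈ Fx V w' → w = w'
  key : ∀ z : V, z ≠ 0 → ∀ h w : H, Mx V w → z ∈ Fx V h → z ∈ Fx V w → Im V h ≤ Im V w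

variable (hb : Bin H V) {Q : ℕ} (P : Planar H V Q)

include P

theorem Planar.card_fx {w : H} (hw : Mx V w) : Nat.card (Fx V w) = Q := by
  have h := fx_im_card (V := V) w
  rw [P.card_im w hw, P.card_v] at h
  exact Nat.eq_of_mul_eq_mul_right (lt_trans zero_lt_one P.one_lt) h

theorem Planar.exists_fixed {w : H} (hw : Mx V w) : ∃ z : V, z ≠ 0 ∧ z ∈ Fx V w := by
  have h : Fx V w ≠ ⊥ := by
    intro e
    have := P.card_fx hw
    rw [e, AddSubgroup.card_bot] at this
    exact P.one_lt.ne this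
  obtain ⟨z, hz, hz0⟩ := (AddSubgroup.bot_or_exists_ne_zero (Fx V w)).resolve_left h
  exact ⟨z, hz0, hz⟩

/-- The maximal involution fixing a non-zero vector. -/
noncomputable def Planar.wx (z : {z : V // z ≠ 0}) : {w : H // Mx V w} :=
  ⟨(P.fixed z.1 z.2).choose, (P.fixed z.1 z.2).choose_spec.1⟩

theorem Planar.wx_mem (z : {z : V // z ≠ 0}) : z.1 ∈ Fx V (P.wx z).1 :=
  (P.fixed z.1 z.2).choose_spec.2

include hb

/-- The stabiliser of a non-zero vector. -/
theorem Planar.stab {z : V} (hz : z ≠ 0) {h w : H} (hw : Mx V w) (hhz : z ∈ Fx V h) (hwz : z ∈ Fx V w)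
    (h1 : h ≠ 1) : h = w := by
  refine ext_smul (V := V) fun x => ?_
  by_cases hx : h • x = x
  · obtain ⟨w', hw', hle⟩ := exists_mx (V := V) h1
    have e : w' = w := P.uniq z hz w' w hw' hw (hle hhz) hwz
    rw [hx, mem_fx.mp (e ▸ hle (mem_fx.mpr hx))]
  · have hd : h • x - x ∈ Im V w := P.key z hz h w hw hhz hwz (mem_im.mpr ⟨x, by abel⟩)
    have hs := (hw.spec hb (x := x) (h := h) hd (sub_ne_zero.mpr hx) (by abel)).1
    rw [hs]; abel

omit hb

omit P in
/-- The elements without non-zero fixed vectors. -/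
def Fpf (V : Type*) [AddCommGroup V] [DistribMulAction H V] (h : H) : Prop :=
  ∀ z : V, h • z = z → z = 0

theorem Planar.not_fpf {w : H} (hw : Mx V w) : ¬ Fpf V w := by
  obtain ⟨z, hz0, hz⟩ := P.exists_fixed hw
  exact fun h => hz0 (h z (mem_fx.mp hz))

theorem Planar.not_fpf_one : ¬ Fpf V (1 : H) := by
  intro h
  obtain ⟨z, hz⟩ : ∃ z : V, z ≠ 0 := by
    have : Nontrivial V := by
      rw [← Finite.one_lt_card_iff_nontrivial, P.card_v]
      exact Nat.one_lt_mul_iff.mpr ⟨by have := P.one_lt; omega, by have := P.one_lt; omega, Or.inl P.one_lt⟩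
    exact exists_ne 0
  exact hz (h z (one_smul H z))

include hb

theorem Planar.trichotomy (h : H) : h = 1 ∨ Mx V h ∨ Fpf V h := by
  by_cases h1 : h = 1
  · exact Or.inl h1
  refine Or.inr ?_
  by_cases hf : Fpf V h
  · exact Or.inr hf
  obtain ⟨z, hz, hz0⟩ : ∃ z : V, h • z = z ∧ z ≠ 0 := by
    by_contra hc
    exact hf fun z hz => by_contra fun hz0 => hc ⟨z, hz, hz0⟩
  obtain ⟨w, hw, hwz⟩ := P.fixed z hz0
  exact Or.inl (P.stab hb hz0 hw (mem_fx.mpr hz) hwz h1 ▸ hw)

/-- The number of maximal involutions. -/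
theorem Planar.card_mx : Nat.card {w : H // Mx V w} = Q + 1 := by
  classical
  haveI : Fintype {w : H // Mx V w} := Fintype.ofFinite _
  let e : (Σ w : {w : H // Mx V w}, {z : Fx V w.1 // z ≠ 0}) ≃ {z : V // z ≠ 0} :=
    Equiv.ofBijective (fun q => ⟨(q.2.1 : V), fun h => q.2.2 (Subtype.ext h)⟩) ⟨by
      rintro ⟨w, ⟨z, hz⟩, hz0⟩ ⟨w', ⟨z', hz'⟩, hz0'⟩ e
      have e' : z = z' := congrArg Subtype.val e
      subst e'
      have : w = w' := Subtype.ext (P.uniq z (fun h => hz0 (Subtype.ext h)) w w' w.2 w'.2 hz hz')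
      subst this
      rfl, fun z => ⟨⟨P.wx z, ⟨z.1, P.wx_mem z⟩, fun h => z.2 (congrArg Subtype.val h)⟩, rfl⟩⟩
  have hne : ∀ (A : Type _) [AddCommGroup A] [Finite A], Nat.card {z : A // z ≠ 0} = Nat.card A - 1 := by
    intro A _ _
    haveI : Fintype A := Fintype.ofFinite _
    rw [Nat.card_eq_fintype_card, Nat.card_eq_fintype_card, Fintype.card_subtype_compl,
      Fintype.card_subtype_eq]
  have h := Nat.card_congr e
  rw [Nat.card_sigma] at h
  have hfib : ∀ w : {w : H // Mx V w}, Nat.card {z : Fx V w.1 // z ≠ 0} = Q - 1 := fun w => by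
    rw [hne, P.card_fx w.2]
  rw [Finset.sum_congr rfl fun w _ => hfib w, Finset.sum_const, Finset.card_univ, smul_eq_mul,
    ← Nat.card_eq_fintype_card, hne, P.card_v] at h
  obtain ⟨q, rfl⟩ : ∃ q, Q = q + 2 := ⟨Q - 2, by have := P.one_lt; omega⟩
  refine Nat.eq_of_mul_eq_mul_right (by omega : 0 < q + 2 - 1) ?_
  rw [h]
  have : (q + 2) * (q + 2) = (q + 2 + 1) * (q + 2 - 1) + 1 := by
    rw [show q + 2 - 1 = q + 1 from rfl]; ring
  omega

theorem Planar.card_fpf : Nat.card {h : H // Fpf V h} = Q := by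
  classical
  obtain ⟨d, hd0⟩ : ∃ d : V, d ≠ 0 := by
    by_contra hc
    exact P.not_fpf_one fun z _ => by_contra fun hz => hc ⟨z, hz⟩
  obtain ⟨v, hv, hdv⟩ := P.spread d hd0
  have hP : Nat.card {x : V // v • x = x + d} = Q := by
    obtain ⟨x₀, hx₀⟩ := mem_im.mp hdv
    rw [← P.card_fx hv]
    refine Nat.card_congr
      ⟨fun x => ⟨x.1 - x₀, mem_fx.mpr (by rw [smul_sub, x.2, hx₀]; abel)⟩,
        fun a => ⟨a.1 + x₀, by rw [smul_add, mem_fx.mp a.2, hx₀]; abel⟩, ?_, ?_⟩
    · intro x; exact Subtype.ext (by simp)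
    · intro a; exact Subtype.ext (by simp)
  rw [← hP]
  have hsol : ∀ h : {h : H // Fpf V h}, ∃ x : {x : V // v • x = x + d}, h.1 • x.1 = x.1 + d := by
    intro h
    have hinj : Function.Injective (dl (V := V) h.1) := by
      rw [injective_iff_map_eq_zero]
      exact fun z hz => h.2 z (sub_eq_zero.mp hz)
    obtain ⟨x, hx⟩ := Finite.surjective_of_injective hinj d
    have hx' : h.1 • x = x + d := by rw [← hx]; simp [dl]
    exact ⟨⟨x, (hv.spec hb hdv hd0 hx').1⟩, hx'⟩
  choose σ hσ using hsol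
  refine Nat.card_eq_of_bijective σ ⟨?_, ?_⟩
  · intro a b hab
    have key : ∀ h : {h : H // Fpf V h}, ∀ hx0 : (σ h).1 ≠ 0, h.1 = v * (P.wx ⟨(σ h).1, hx0⟩).1 := by
      intro h hx0
      have hne : v⁻¹ * h.1 ≠ 1 := fun e =>
        P.not_fpf hv ((inv_mul_eq_one.mp e).symm ▸ h.2)
      rw [← P.stab hb hx0 (P.wx ⟨_, hx0⟩).2 ?_ (P.wx_mem ⟨_, hx0⟩) hne, mul_inv_cancel_left]
      rw [mem_fx, mul_smul, hσ, inv_smul_eq_iff, (σ h).2]
    have hx0 : (σ a).1 ≠ 0 := fun e => hd0 (by
      have := hσ a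
      rw [e, smul_zero, zero_add] at this
      exact this.symm)
    refine Subtype.ext ((key a hx0).trans (Eq.trans ?_ (key b (hab ▸ hx0)).symm))
    have e : (⟨(σ a).1, hx0⟩ : {z : V // z ≠ 0}) = ⟨(σ b).1, hab ▸ hx0⟩ :=
      Subtype.ext (show ((σ a).1 : V) = (σ b).1 from congrArg Subtype.val hab)
    exact congrArg (fun u => v * (P.wx u).1) e
  · rintro ⟨x, hx⟩
    have hx0 : x ≠ 0 := fun e => hd0 (by
      rw [e, smul_zero, zero_add] at hx
      exact hx.symm)
    set w := P.wx ⟨x, hx0⟩ with hw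
    have hwx : w.1 • x = x := mem_fx.mp (P.wx_mem ⟨x, hx0⟩)
    have hhx : (v * w.1) • x = x + d := by rw [mul_smul, hwx, hx]
    have hfpf : Fpf V (v * w.1) := by
      rcases P.trichotomy hb (v * w.1) with e | e | e
      · rw [e, one_smul] at hhx; exact absurd (left_eq_add.mp hhx) hd0
      · have := e.eq_of_im hb hv (mem_im.mpr ⟨x, hhx⟩) hdv hd0
        exact absurd (mul_eq_left.mp this) w.2.ne
      · exact e
    refine ⟨⟨v * w.1, hfpf⟩, Subtype.ext ?_⟩
    have h2 := hσ ⟨v * w.1, hfpf⟩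
    have h3 : (v * w.1) • ((σ ⟨v * w.1, hfpf⟩).1 - x) = (σ ⟨v * w.1, hfpf⟩).1 - x := by
      rw [smul_sub, h2, hhx]; abel
    exact sub_eq_zero.mp (hfpf _ h3)

theorem Planar.mul_fpf {t s : H} (ht : Mx V t) (hs : Mx V s) (hne : t ≠ s) : Fpf V (t * s) := by
  intro z hz
  rw [mul_smul] at hz
  have hsz : s • z = t • z := by
    have := congrArg (fun u => t • u) hz
    simpa [ht.smul_smul hb] using this
  by_contra hz0
  have h0 : s • z - z = 0 := by
    by_contra hn
    exact hne (ht.eq_of_im hb hs (mem_im.mpr ⟨z, by rw [hsz]; abel⟩) (mem_im.mpr ⟨z, by abel⟩) hn)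
  have hzs : s • z = z := sub_eq_zero.mp h0
  exact hne (P.uniq z hz0 t s ht hs (mem_fx.mpr (hsz ▸ hzs)) (mem_fx.mpr hzs))

omit P hb in
/-- The rotations. -/
def Rot (V : Type*) [AddCommGroup V] [DistribMulAction H V] (h : H) : Prop := h = 1 ∨ Fpf V h

theorem Planar.card_rot : Nat.card {h : H // Rot V h} = Q + 1 := by
  classical
  haveI : Fintype H := Fintype.ofFinite H
  have h := P.card_fpf hb
  rw [Nat.card_eq_fintype_card, Fintype.card_subtype] at h ⊢
  have : (Finset.univ.filter fun g : H => Rot V g) = insert 1 (Finset.univ.filter fun g : H => Fpf V g) := by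
    ext g
    simp only [Finset.mem_insert, Finset.mem_filter, Finset.mem_univ, true_and]
    rfl
  rw [this, Finset.card_insert_of_notMem (by simpa using P.not_fpf_one), h]

theorem Planar.mul_rot {t s : H} (ht : Mx V t) (hs : Mx V s) : Rot V (t * s) := by
  by_cases e : t = s
  · exact Or.inl (by rw [e, hs.sq hb])
  · exact Or.inr (P.mul_fpf hb ht hs e)

/-- Every rotation is a product of two maximal involutions with a prescribed first factor. -/
theorem Planar.exists_factor {g : H} (hg : Rot V g) {t : H} (ht : Mx V t) :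
    ∃ s : H, Mx V s ∧ g = t * s := by
  classical
  haveI : Fintype {w : H // Mx V w} := Fintype.ofFinite _
  haveI : Fintype {h : H // Rot V h} := Fintype.ofFinite _
  let f : {w : H // Mx V w} → {h : H // Rot V h} := fun s => ⟨t * s.1, P.mul_rot hb ht s.2⟩
  have hinj : Function.Injective f := fun a b e =>
    Subtype.ext (mul_left_cancel (congrArg Subtype.val e))
  have hbij : Function.Bijective f := (Fintype.bijective_iff_injective_and_card f).mpr
    ⟨hinj, by rw [← Nat.card_eq_fintype_card, ← Nat.card_eq_fintype_card, P.card_mx hb, P.card_rot hb]⟩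
  obtain ⟨s, hs⟩ := hbij.2 ⟨g, hg⟩
  exact ⟨s.1, s.2, (congrArg Subtype.val hs).symm⟩

theorem Planar.inverts {g : H} (hg : Rot V g) {t : H} (ht : Mx V t) : t * g * t = g⁻¹ := by
  obtain ⟨s, hs, rfl⟩ := P.exists_factor hb hg ht
  rw [← mul_assoc t t s, ht.sq hb, one_mul, mul_inv_rev, ht.inv_eq hb, hs.inv_eq hb]

theorem Planar.exists_mx : ∃ t : H, Mx V t := by
  have := P.card_mx hb
  obtain ⟨⟨t, ht⟩⟩ := (Nat.card_pos_iff.mp (by omega : 0 < Nat.card {w : H // Mx V w})).1
  exact ⟨t, ht⟩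

theorem Planar.rot_mul {g g' : H} (hg : Rot V g) (hg' : Rot V g') : Rot V (g * g') := by
  obtain ⟨w, hw⟩ := P.exists_mx hb
  obtain ⟨s', hs', e'⟩ := P.exists_factor hb hg' hw
  obtain ⟨s, hs, e⟩ := P.exists_factor hb hg hw
  have e2 : g = (w * s * w) * w := by rw [e, mul_assoc (w * s) w w, hw.sq hb, mul_one]
  have hc : Mx V (w * s * w) := by
    have := hs.conj w
    rwa [hw.inv_eq hb] at this
  rw [e2, e', mul_assoc, ← mul_assoc w w, hw.sq hb, one_mul]
  exact P.mul_rot hb hc hs'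

theorem Planar.rot_comm {g g' : H} (hg : Rot V g) (hg' : Rot V g') : g * g' = g' * g := by
  obtain ⟨w, hw⟩ := P.exists_mx hb
  obtain ⟨s, hs, rfl⟩ := P.exists_factor hb hg' hw
  have h1 : g * w = w * g⁻¹ := by
    rw [← P.inverts hb hg hw, ← mul_assoc, ← mul_assoc, hw.sq hb, one_mul]
  have h2 : g⁻¹ * s = s * g := by
    rw [← P.inverts hb hg hs, mul_assoc (s * g), hs.sq hb, mul_one]
  calc g * (w * s) = w * (g⁻¹ * s) := by rw [← mul_assoc, h1, mul_assoc]
    _ = w * s * g := by rw [h2, mul_assoc]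

theorem Planar.mx_or_rot (h : H) : Mx V h ∨ Rot V h := by
  rcases P.trichotomy hb h with e | e | e
  · exact Or.inr (Or.inl e)
  · exact Or.inl e
  · exact Or.inr (Or.inr e)

end Cfsg.Agent.BinaryAffine
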