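import Cfsg.Agent.Lib.BinaryAffine.Count

/-!
Binary affine groups in the plane situation: the rotations generate a field over which `V` is a line, the
rotations are its elements with `a ^ (Q + 1) = 1`, and any maximal involution induces an automorphism.
-/

set_option autoImplicit false
set_option linter.unusedSectionVars false

namespace Cfsg.Agent.BinaryAffine

variable {H V : Type*} [Group H] [AddCommGroup V] [DistribMulAction H V] [FaithfulSMul H V]
  [Finite H] [Finite V]

/-- A type without structure to carry the field. -/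
def Carrier (n : ℕ) : Type := Fin n

variable (hb : Bin H V) {Q : ℕ} (P : Planar H V Q)

include hb P

theorem Planar.rot_inv {g : H} (hg : Rot V g) : Rot V g⁻¹ := by
  rcases hg with rfl | hg
  · exact Or.inl inv_one
  · exact Or.inr fun z hz => hg z (eq_inv_smul_iff.mp hz.symm)

/-- The subgroup of rotations. -/
def Planar.rotGroup : Subgroup H where
  carrier := {g | Rot V g}
  mul_mem' := fun {_ _} ha hb' => P.rot_mul hb ha hb'
  one_mem' := Or.inl rfl
  inv_mem' := fun {_} ha => P.rot_inv hb ha

/-- The rotations act irreducibly. -/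
theorem Planar.rot_irr {U : AddSubgroup V} (hU : ∀ g : H, Rot V g → ∀ u ∈ U, g • u ∈ U) :
    U = ⊥ ∨ U = ⊤ := by
  classical
  by_contra hc
  push Not at hc
  obtain ⟨hbot, htop⟩ := hc
  obtain ⟨z, hz, hz0⟩ := (AddSubgroup.bot_or_exists_ne_zero U).resolve_left hbot
  obtain ⟨w, hw⟩ : ∃ w : V, w ∉ U := by
    by_contra hall
    exact htop (eq_top_iff.mpr fun v _ => by_contra fun hv => hall ⟨v, hv⟩)
  have hR : Nat.card (Option {h : H // Rot V h}) = Q + 2 := by
    rw [Finite.card_option, P.card_rot hb]
  have hfree : ∀ {g : H}, Rot V g → ∀ v : V, v ≠ 0 → g • v = v → g = 1 := fun hg v hv hgv =>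
    hg.resolve_right fun hf => hv (hf v hgv)
  have h1 : Q + 2 ≤ Nat.card U := by
    rw [← hR]
    refine Nat.card_le_card_of_injective
      (fun g => g.elim (0 : U) fun g => (⟨g.1 • z, hU _ g.2 z hz⟩ : U)) ?_
    intro a b hab
    rcases a with _ | a <;> rcases b with _ | b <;> simp only [Option.elim] at hab
    · rfl
    · exact absurd ((smul_eq_zero_iff_eq b.1).mp (congrArg Subtype.val hab).symm) hz0
    · exact absurd ((smul_eq_zero_iff_eq a.1).mp (congrArg Subtype.val hab)) hz0
    · have e : a.1 • z = b.1 • z := congrArg Subtype.val hab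
      have := hfree (P.rot_mul hb (P.rot_inv hb b.2) a.2) z hz0 (by rw [mul_smul, e, inv_smul_smul])
      exact congrArg some (Subtype.ext (inv_mul_eq_one.mp this).symm)
  have h2 : Q + 2 ≤ Nat.card (V ⧸ U) := by
    rw [← hR]
    refine Nat.card_le_card_of_injective
      (fun g => g.elim (0 : V ⧸ U) fun g => ((g.1 • w : V) : V ⧸ U)) ?_
    have hnot : ∀ g : H, Rot V g → g • w ∉ U := fun g hg h => hw (by
      simpa using hU _ (P.rot_inv hb hg) _ h)
    intro a b hab
    rcases a with _ | a <;> rcases b with _ | b <;> simp only [Option.elim] at hab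
    · rfl
    · exact absurd ((QuotientAddGroup.eq_zero_iff _).mp hab.symm) (hnot _ b.2)
    · exact absurd ((QuotientAddGroup.eq_zero_iff _).mp hab) (hnot _ a.2)
    · rw [QuotientAddGroup.eq] at hab
      set k := a.1⁻¹ * b.1 with hk
      have hkR : Rot V k := P.rot_mul hb (P.rot_inv hb a.2) b.2
      have hkU : k • w - w ∈ U := by
        have := hU _ (P.rot_inv hb a.2) _ hab
        rw [smul_add, smul_neg, inv_smul_smul, ← mul_smul, ← hk] at this
        rwa [sub_eq_neg_add]
      rcases hkR with hk1 | hkf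
      · exact congrArg some (Subtype.ext (inv_mul_eq_one.mp hk1))
      · exfalso
        let f : U → U := fun u => ⟨k • (u : V) - u, U.sub_mem (hU k (Or.inr hkf) u u.2) u.2⟩
        have hf : Function.Injective f := fun u u' e => by
          have e' : k • (u : V) - u = k • (u' : V) - u' := congrArg Subtype.val e
          refine Subtype.ext (sub_eq_zero.mp (hkf _ ?_))
          rw [smul_sub, sub_eq_sub_iff_sub_eq_sub]
          exact e'
        obtain ⟨u, hu⟩ := Finite.surjective_of_injective hf ⟨_, hkU⟩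
        have hu' : k • (u : V) - u = k • w - w := congrArg Subtype.val hu
        have := hkf ((u : V) - w) (by
          rw [smul_sub, sub_eq_sub_iff_sub_eq_sub]
          exact hu')
        exact hw (sub_eq_zero.mp this ▸ u.2)
  have h3 : (Q + 2) * (Q + 2) ≤ Q * Q := by
    rw [← P.card_v, AddSubgroup.card_eq_card_quotient_mul_card_addSubgroup U]
    exact Nat.mul_le_mul h2 h1
  nlinarith

/-- The field, with the rotations and the reflection. -/
theorem Planar.exists_field :
    ∃ (E : Type) (_ : Field E) (_ : Fintype E) (ψ : V ≃+ E) (φ : E ≃+* E),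
      Fintype.card E = Q * Q ∧ (∀ x, φ (φ x) = x) ∧ (∃ θ, φ θ ≠ θ) ∧
      (∀ h : H, ∃ a : E, a ^ (Q + 1) = 1 ∧
        ((∀ v, ψ (h • v) = a * ψ v) ∨ ∀ v, ψ (h • v) = a * φ (ψ v))) ∧
      ∀ a : E, a ^ (Q + 1) = 1 →
        (∃ h : H, ∀ v, ψ (h • v) = a * ψ v) ∧ ∃ h : H, ∀ v, ψ (h • v) = a * φ (ψ v) := by
  classical
  obtain ⟨t, ht⟩ := P.exists_mx hb
  obtain ⟨z₀, hz0, hz⟩ := P.exists_fixed ht
  have htz : t • z₀ = z₀ := mem_fx.mp hz
  let ρ : H →* AddMonoid.End V := DistribMulAction.toAddMonoidEnd H V
  have hρ : ∀ (h : H) (v : V), ρ h v = h • v := fun _ _ => rfl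
  haveI : Finite (AddMonoid.End V) :=
    Finite.of_injective (fun f => (f : V → V)) fun f g e => DFunLike.coe_injective e
  let E₀ : Subring (AddMonoid.End V) := Subring.closure (ρ '' {g | Rot V g})
  have hmem : ∀ g : H, Rot V g → ρ g ∈ E₀ := fun g hg => Subring.subset_closure ⟨g, hg, rfl⟩
  haveI : IsMulCommutative E₀ := Subring.isMulCommutative_closure (by
    rintro _ ⟨a, ha, rfl⟩ _ ⟨b, hb', rfl⟩
    rw [← map_mul, ← map_mul, P.rot_comm hb ha hb'])
  letI hcr : CommRing E₀ :=
    { (inferInstance : Ring E₀) with mul_comm := fun a b => mul_comm' a b }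
  have hcom : ∀ (e : E₀) (g : H), Rot V g → ∀ v : V,
      (e : AddMonoid.End V) (g • v) = g • (e : AddMonoid.End V) v := by
    intro e g hg v
    have := congrArg (fun x : E₀ => (x : AddMonoid.End V) v) (mul_comm e ⟨ρ g, hmem g hg⟩)
    exact this
  have hinv : ∀ e : E₀, e ≠ 0 → ∀ v : V, (e : AddMonoid.End V) v = 0 → v = 0 := by
    intro e he
    let U : AddSubgroup V :=
      { carrier := {v | (e : AddMonoid.End V) v = 0}
        add_mem' := fun {x y} hx hy => by
          show (e : AddMonoid.End V) (x + y) = 0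
          rw [map_add, show (e : AddMonoid.End V) x = 0 from hx, show (e : AddMonoid.End V) y = 0 from hy, add_zero]
        zero_mem' := map_zero _
        neg_mem' := fun {x} hx => by
          show (e : AddMonoid.End V) (-x) = 0
          rw [map_neg, show (e : AddMonoid.End V) x = 0 from hx, neg_zero] }
    rcases P.rot_irr hb (U := U) (fun g hg u hu => by
      show (e : AddMonoid.End V) (g • u) = 0
      rw [hcom e g hg u, show (e : AddMonoid.End V) u = 0 from hu, smul_zero]) with h | h
    · intro v hv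
      have : v ∈ U := hv
      rw [h, AddSubgroup.mem_bot] at this
      exact this
    · exfalso
      apply he
      apply Subtype.ext
      exact AddMonoidHom.ext fun v => (h ▸ AddSubgroup.mem_top v : v ∈ U)
  let ev : E₀ →+ V :=
    { toFun := fun e => (e : AddMonoid.End V) z₀
      map_zero' := rfl
      map_add' := fun _ _ => rfl }
  have hev_bij : Function.Bijective ev := by
    constructor
    · rw [injective_iff_map_eq_zero]
      intro e he
      by_contra h
      exact hz0 (hinv e h z₀ he)
    · intro v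
      rcases P.rot_irr hb (U := ev.range) (by
        rintro g hg u ⟨e, rfl⟩
        exact ⟨⟨ρ g, hmem g hg⟩ * e, rfl⟩) with h | h
      · exfalso
        have : ev 1 ∈ ev.range := ⟨1, rfl⟩
        rw [h, AddSubgroup.mem_bot] at this
        exact hz0 this
      · exact AddMonoidHom.mem_range.mp (h ▸ AddSubgroup.mem_top v)
  haveI : Nontrivial E₀ := ⟨⟨1, 0, fun e => hz0 (show (1 : AddMonoid.End V) z₀ = 0 by
    have := congrArg (fun x : E₀ => (x : AddMonoid.End V) z₀) e
    exact this)⟩⟩
  haveI : NoZeroDivisors E₀ := ⟨fun {a b} hab => by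
    by_contra hc
    push Not at hc
    refine hz0 (hinv b hc.2 z₀ (hinv a hc.1 _ ?_))
    exact congrArg (fun x : E₀ => (x : AddMonoid.End V) z₀) hab⟩
  haveI : IsDomain E₀ := NoZeroDivisors.to_isDomain _
  letI fE₀ : Field E₀ := (Finite.isField_of_domain E₀).toField
  let n := Nat.card E₀
  let eqv : Carrier n ≃ E₀ := (Finite.equivFin E₀).symm
  letI fE : Field (Carrier n) := eqv.field
  haveI : Finite (Carrier n) := Finite.of_equiv _ eqv.symm
  letI : Fintype (Carrier n) := Fintype.ofFinite _
  let re : Carrier n ≃+* E₀ := eqv.ringEquiv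
  let ψ : V ≃+ Carrier n := (AddEquiv.ofBijective ev hev_bij).symm.trans re.toAddEquiv.symm
  have hψ : ∀ (x : Carrier n), ψ.symm x = (re x : AddMonoid.End V) z₀ := fun x => rfl
  have hmul : ∀ (x : Carrier n) (v : V), ψ ((re x : AddMonoid.End V) v) = x * ψ v := by
    intro x v
    apply ψ.symm.injective
    rw [AddEquiv.symm_apply_apply, hψ, map_mul]
    show (re x : AddMonoid.End V) v = (re x : AddMonoid.End V) ((re (ψ v) : AddMonoid.End V) z₀)
    rw [← hψ (ψ v), AddEquiv.symm_apply_apply]
  -- the reflection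
  have hconj : ∀ e ∈ E₀, ρ t * e * ρ t ∈ E₀ := by
    intro e he
    have htt : ρ t * ρ t = 1 := by rw [← map_mul, ht.sq hb, map_one]
    induction he using Subring.closure_induction with
    | mem x hx =>
      obtain ⟨g, hg, rfl⟩ := hx
      rw [← map_mul, ← map_mul, P.inverts hb hg ht]
      exact hmem _ (P.rot_inv hb hg)
    | zero => simp
    | one => rw [mul_one, htt]; exact E₀.one_mem
    | add a b _ _ ha hb' => rw [mul_add, add_mul]; exact E₀.add_mem ha hb'
    | neg a _ ha => rw [mul_neg, neg_mul]; exact E₀.neg_mem ha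
    | mul a b _ _ ha hb' =>
      rw [show ρ t * (a * b) * ρ t = (ρ t * a * ρ t) * (ρ t * b * ρ t) by
        simp only [mul_assoc]
        rw [← mul_assoc (ρ t) (ρ t), htt, one_mul]]
      exact E₀.mul_mem ha hb'
  let cj : E₀ → E₀ := fun e => ⟨ρ t * e * ρ t, hconj e e.2⟩
  have hcj : ∀ (e : E₀) (v : V), (cj e : AddMonoid.End V) v = t • (e : AddMonoid.End V) (t • v) :=
    fun _ _ => rfl
  let φ₀ : E₀ ≃+* E₀ :=
    { toFun := cj
      invFun := cj
      left_inv := fun e => Subtype.ext (AddMonoidHom.ext fun v => by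
        show t • t • (e : AddMonoid.End V) (t • t • v) = (e : AddMonoid.End V) v
        rw [ht.smul_smul hb, ht.smul_smul hb])
      right_inv := fun e => Subtype.ext (AddMonoidHom.ext fun v => by
        show t • t • (e : AddMonoid.End V) (t • t • v) = (e : AddMonoid.End V) v
        rw [ht.smul_smul hb, ht.smul_smul hb])
      map_mul' := fun a b => Subtype.ext (AddMonoidHom.ext fun v => by
        show t • (a : AddMonoid.End V) ((b : AddMonoid.End V) (t • v)) =
          t • (a : AddMonoid.End V) (t • t • (b : AddMonoid.End V) (t • v))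
        rw [ht.smul_smul hb])
      map_add' := fun a b => Subtype.ext (AddMonoidHom.ext fun v => by
        show t • ((a : AddMonoid.End V) (t • v) + (b : AddMonoid.End V) (t • v)) = _
        rw [smul_add]
        rfl) }
  let φ : Carrier n ≃+* Carrier n := (re.trans φ₀).trans re.symm
  have hφ : ∀ v : V, ψ (t • v) = φ (ψ v) := by
    intro v
    apply ψ.symm.injective
    rw [AddEquiv.symm_apply_apply, hψ]
    show t • v = (re (re.symm (φ₀ (re (ψ v)))) : AddMonoid.End V) z₀
    rw [RingEquiv.apply_symm_apply]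
    show t • v = t • (re (ψ v) : AddMonoid.End V) (t • z₀)
    rw [htz, ← hψ (ψ v), AddEquiv.symm_apply_apply]
  have hφφ : ∀ x, φ (φ x) = x := fun x => by
    obtain ⟨v, rfl⟩ := ψ.surjective x
    rw [← hφ, ← hφ, ht.smul_smul hb]
  -- the rotations inside the field
  let a : {g : H // Rot V g} → Carrier n := fun g => re.symm ⟨ρ g.1, hmem g.1 g.2⟩
  have ha : ∀ (g : {g : H // Rot V g}) (v : V), ψ (g.1 • v) = a g * ψ v := by
    intro g v
    rw [← hmul, show re (a g) = ⟨ρ g.1, hmem g.1 g.2⟩ from re.apply_symm_apply _]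
    rfl
  have hainj : Function.Injective a := fun g g' e => Subtype.ext (ext_smul (V := V) fun v =>
    ψ.injective (by rw [ha, ha, e]))
  have hapow : ∀ g, a g ^ (Q + 1) = 1 := by
    intro g
    have hgp : ∀ (k : ℕ) (v : V), ψ (g.1 ^ k • v) = a g ^ k * ψ v := by
      intro k
      induction k with
      | zero => intro v; simp
      | succ k ih => intro v; rw [pow_succ, mul_smul, ih, ha, pow_succ, mul_assoc]
    have h1 : g.1 ^ (Q + 1) = 1 := by
      have hc : Nat.card (P.rotGroup hb) = Q + 1 := P.card_rot hb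
      have := pow_card_eq_one' (x := (⟨g.1, g.2⟩ : P.rotGroup hb))
      rw [hc] at this
      exact congrArg Subtype.val this
    have := hgp (Q + 1) (ψ.symm 1)
    rw [h1, one_smul, AddEquiv.apply_symm_apply, mul_one] at this
    exact this.symm
  have hall : ∀ x : Carrier n, x ^ (Q + 1) = 1 → ∃ g, a g = x := by
    intro x hx
    haveI : Fintype {g : H // Rot V g} := Fintype.ofFinite _
    have hsub : Finset.univ.image a ⊆ (Polynomial.nthRoots (Q + 1) (1 : Carrier n)).toFinset := by
      intro y hy
      obtain ⟨g, -, rfl⟩ := Finset.mem_image.mp hy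
      rw [Multiset.mem_toFinset, Polynomial.mem_nthRoots (Nat.succ_pos Q)]
      exact hapow g
    have heq := Finset.eq_of_subset_of_card_le hsub (by
      refine le_trans (Multiset.toFinset_card_le _) (le_trans (Polynomial.card_nthRoots _ _) ?_)
      rw [Finset.card_image_of_injective _ hainj, Finset.card_univ, ← Nat.card_eq_fintype_card, P.card_rot hb])
    have hxm : x ∈ Finset.univ.image a := by
      rw [heq, Multiset.mem_toFinset, Polynomial.mem_nthRoots (Nat.succ_pos Q)]
      exact hx
    obtain ⟨g, -, hg⟩ := Finset.mem_image.mp hxm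
    exact ⟨g, hg⟩
  have hcardE : Fintype.card (Carrier n) = Q * Q := by
    rw [← Nat.card_eq_fintype_card, ← Nat.card_congr ψ.toEquiv, P.card_v]
  have hθ : ∃ θ, φ θ ≠ θ := by
    by_contra hc
    push Not at hc
    have hfix : ∀ v : V, t • v = v := fun v => ψ.injective (by rw [hφ, hc])
    exact ht.ne (ext_smul (V := V) fun v => by rw [hfix, one_smul])
  refine ⟨Carrier n, fE, inferInstance, ψ, φ, hcardE, hφφ, hθ, fun h => ?_, fun x hx => ?_⟩
  · rcases P.mx_or_rot hb h with hm | hr
    · refine ⟨a ⟨h * t, P.mul_rot hb hm ht⟩, hapow _, Or.inr fun v => ?_⟩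
      rw [← hφ, ← ha ⟨h * t, P.mul_rot hb hm ht⟩ (t • v)]
      congr 1
      rw [mul_smul, ht.smul_smul hb]
    · exact ⟨a ⟨h, hr⟩, hapow _, Or.inl (ha ⟨h, hr⟩)⟩
  · obtain ⟨g, rfl⟩ := hall x hx
    refine ⟨⟨g.1, ha g⟩, g.1 * t, fun v => ?_⟩
    rw [mul_smul, ha, hφ]

end Cfsg.Agent.BinaryAffine
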