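import Mathlib

/-!
A counting form of Baer's theorem: there is no polarity without absolute points of a projective plane of
order `Q ≡ 0 (mod p)`. Read modulo `p`, the incidence matrix `A` satisfies `A² = J`, so `A ^ p = J` has
trace `1` while `(trace A) ^ p = 0`.
-/

set_option autoImplicit false

namespace Cfsg.Agent.BinaryAffine

theorem no_polarity {S : Type*} [Finite S] {p : ℕ} [Fact p.Prime] (R : S → S → Prop)
    (hirr : ∀ a, ¬ R a a) (hsymm : ∀ a b, R a b → R b a)
    (hdeg : ∀ a, (Nat.card {b // R a b} : ZMod p) = 1)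
    (hpair : ∀ a b, a ≠ b → Nat.card {c // R a c ∧ R b c} = 1)
    (hcard : (Nat.card S : ZMod p) = 1) : False := by
  classical
  haveI : Fintype S := Fintype.ofFinite S
  let A : Matrix S S (ZMod p) := Matrix.of fun a b => if R a b then 1 else 0
  let J : Matrix S S (ZMod p) := Matrix.of fun _ _ => 1
  have hdeg' : ∀ a, ((Finset.univ.filter fun b => R a b).card : ZMod p) = 1 := fun a => by
    rw [← hdeg a, Nat.card_eq_fintype_card, Fintype.card_subtype]
  have hA2 : A * A = J := by
    ext a c
    simp only [A, J, Matrix.mul_apply, Matrix.of_apply, ite_mul, one_mul, zero_mul]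
    rw [← Finset.sum_filter, Finset.sum_boole, Finset.filter_filter]
    by_cases e : a = c
    · subst e
      rw [Finset.filter_congr (q := fun b => R a b) fun b _ => ⟨fun q => q.1, fun q => ⟨q, hsymm _ _ q⟩⟩]
      exact hdeg' a
    · have h1 := hpair a c e
      rw [Nat.card_eq_fintype_card, Fintype.card_subtype] at h1
      rw [Finset.filter_congr (q := fun b => R a b ∧ R c b) fun b _ =>
        ⟨fun q => ⟨q.1, hsymm _ _ q.2⟩, fun q => ⟨q.1, hsymm _ _ q.2⟩⟩, h1, Nat.cast_one]
  have hAJ : A * J = J := by
    ext a c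
    simp only [A, J, Matrix.mul_apply, Matrix.of_apply, mul_one]
    rw [Finset.sum_boole]
    exact hdeg' a
  have hpow : ∀ k : ℕ, A ^ (k + 2) = J := by
    intro k
    induction k with
    | zero => rw [zero_add, pow_two, hA2]
    | succ k ih => rw [show k + 1 + 2 = (k + 2) + 1 from rfl, pow_succ', ih, hAJ]
  obtain ⟨k, hk⟩ : ∃ k, p = k + 2 := ⟨p - 2, by have := (Fact.out : p.Prime).two_le; omega⟩
  have htr := ZMod.trace_pow_card A
  have hA0 : A.trace = 0 := by
    refine Finset.sum_eq_zero fun a _ => ?_
    simp [A, Matrix.diag, hirr a]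
  have hAp : A ^ p = J := by
    have e := hpow k
    rwa [← hk] at e
  rw [hAp, hA0, zero_pow (Fact.out : p.Prime).ne_zero] at htr
  apply one_ne_zero (α := ZMod p)
  rw [← hcard, Nat.card_eq_fintype_card, ← htr]
  simp [J, Matrix.trace]

end Cfsg.Agent.BinaryAffine
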