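import Cfsg.Agent.Lib.BinaryAffine.Perp
import Cfsg.Agent.Lib.BinaryAffine.Polarity

/-!
Binary irreducible affine groups of odd characteristic: a plane fills the whole space, since three
dimensions over the atoms would carry a polarity without absolute points.
-/

set_option autoImplicit false
set_option linter.unusedSectionVars false

namespace Cfsg.Agent.BinaryAffine

variable {H V : Type*} [Group H] [AddCommGroup V] [DistribMulAction H V] [FaithfulSMul H V]
  [Finite H] [Finite V]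

variable (O : Odd' H V)

include O

/-- The element sending `a + b` to its negative and fixing `a - b`, for `b = k • a`. -/
theorem Odd'.swap_elem {a b : V} {k : H} (hk : k • a = b) (hne : a + b ≠ 0) :
    ∃ q : H, Mx V q ∧ a - b ∈ Fx V q ∧
      ∀ y, O.Perp y a → O.Perp y b → y ∈ Fx V q := by
  obtain ⟨j, hj⟩ := O.neg
  set r := O.rr (a + b) with hr
  have hmove : (j * k⁻¹) • (-(b + b)) = -(b + b) + ((a + b) + (a + b)) := by
    rw [mul_smul, smul_neg, ← hk, smul_add, inv_smul_smul, hj]; abel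
  have h1 := (O.rr_spec hmove).1
  have h2 := O.rr_self (a + b)
  have hb' : r • b = -a := by
    apply O.add_self_inj
    rw [← smul_add]
    rw [smul_neg] at h1
    have h3 : -(r • (b + b)) = a + a := h1.trans (by abel)
    rw [← neg_eq_iff_eq_neg.mpr h3.symm]
    abel
  have ha' : r • a = -b := by
    rw [← hr, smul_add, hb'] at h2
    have h3 : r • a = -(a + b) + a := by rw [← h2]; abel
    rw [h3]; abel
  have hr1 : r ≠ 1 := fun e => hne (O.two _ (by
    rw [← hr, e, one_smul] at h2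
    nth_rewrite 1 [h2]
    exact neg_add_cancel _))
  obtain ⟨q, hq, hle⟩ := exists_mx (V := V) hr1
  exact ⟨q, hq, hle (mem_fx.mpr (by rw [smul_sub, ha', hb']; abel)),
    fun y hya hyb => hle (O.perp_add_right hya hyb)⟩

/-- Some maximal element outside the plane fails to commute with one inside. -/
theorem Odd'.exists_out (hirr : Irr H V) {t s : H} (h : NC V t s) (hY : Yp V t s ≠ ⊥) :
    ∃ q w : H, Mx V w ∧ Yp V t s ≤ Fx V w ∧ NC V q w ∧ ¬ Yp V t s ≤ Fx V q := by
  by_contra hcon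
  have hcom : ∀ q w : H, Mx V q → ¬ Yp V t s ≤ Fx V q → Mx V w → Yp V t s ≤ Fx V w → Commute q w :=
    fun q w hq hqY hw hwY => by
      by_contra hnc
      exact hcon ⟨q, w, hw, hwY, ⟨hq, hw, hnc⟩, hqY⟩
  have hsub : ∀ {q : H}, Mx V q → ¬ Yp V t s ≤ Fx V q → Xp V t s ≤ Fx V q := fun {q} hq hqY =>
    sup_le (hq.im_le_fx O.bin h.left (fun e => hqY (e ▸ inf_le_left)) (hcom q t hq hqY h.left inf_le_left))
      (hq.im_le_fx O.bin h.right (fun e => hqY (e ▸ inf_le_right)) (hcom q s hq hqY h.right inf_le_right))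
  have hsubY : ∀ {q : H}, Mx V q → ¬ Yp V t s ≤ Fx V q → Im V q ≤ Yp V t s := fun {q} hq hqY =>
    le_inf (h.left.im_le_fx O.bin hq (fun e => hqY (e ▸ inf_le_left)) (hcom q t hq hqY h.left inf_le_left).symm)
      (h.right.im_le_fx O.bin hq (fun e => hqY (e ▸ inf_le_right)) (hcom q s hq hqY h.right inf_le_right).symm)
  obtain ⟨w, hw, hwY, k, hk⟩ : ∃ w : H, Mx V w ∧ Yp V t s ≤ Fx V w ∧
      ∃ k : H, ¬ Yp V t s ≤ Fx V (k * w * k⁻¹) := by
    by_contra hc
    have hinv : ∀ (k : H) (w : H), Mx V w → Yp V t s ≤ Fx V w → Yp V t s ≤ Fx V (k * w * k⁻¹) :=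
      fun k w hw hwY => by
        by_contra e
        exact hc ⟨w, hw, hwY, k, e⟩
    rcases hirr (Xp V t s) (fun k x hx => by
      obtain ⟨a, ha, a', ha', rfl⟩ := AddSubgroup.mem_sup.mp hx
      rw [smul_add]
      exact (Xp V t s).add_mem
        (O.im_le_x h (h.left.conj k) (hinv k t h.left inf_le_left) (by rw [im_conj, inv_smul_smul]; exact ha))
        (O.im_le_x h (h.right.conj k) (hinv k s h.right inf_le_right) (by rw [im_conj, inv_smul_smul]; exact ha'))) with e | e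
    · obtain ⟨a, ha, ha0⟩ := O.im_ne_bot h.left
      exact ha0 (AddSubgroup.mem_bot.mp (e ▸ AddSubgroup.mem_sup_left ha))
    · exact hY (by rw [← top_inf_eq (Yp V t s), ← e]; exact h.disjoint O.bin O.par)
  set u := k * w * k⁻¹ with hu'
  have hu : Mx V u := hw.conj k
  obtain ⟨a, ha, ha0⟩ := O.im_ne_bot hw
  set b := k • a with hb'
  have hbI : b ∈ Im V u := by rw [hu', im_conj, hb', inv_smul_smul]; exact ha
  have hbY : b ∈ Yp V t s := hsubY hu hk hbI
  have haX : a ∈ Xp V t s := O.im_le_x h hw hwY ha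
  have hab0 : a + b ≠ 0 := fun e => ha0 (by
    have : a ∈ Xp V t s ⊓ Yp V t s := ⟨haX, by
      rw [eq_neg_of_add_eq_zero_left e]; exact (Yp V t s).neg_mem hbY⟩
    rw [h.disjoint O.bin O.par, AddSubgroup.mem_bot] at this
    exact this)
  obtain ⟨q, hq, hqab, hqperp⟩ := O.swap_elem hb'.symm hab0
  have hfix : Fx V w ⊓ Fx V u ≤ Fx V q := fun y hy =>
    hqperp y (O.perp_im hy.1 ha) (O.perp_im hy.2 hbI)
  apply O.not_im_le_fx hq
  refine le_trans ?_ hfix
  by_cases hqY : Yp V t s ≤ Fx V q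
  · have hqa : a ∈ Fx V q := by
      have := (Fx V q).add_mem hqab (hqY hbY)
      rwa [sub_add_cancel] at this
    have hqw : q ≠ w := fun e =>
      ha0 (AddSubgroup.mem_bot.mp ((O.fx_inf_im w).le ⟨e ▸ hqa, ha⟩))
    exact le_inf (hw.im_le_fx O.bin hq hqw.symm (hw.commute_of_inter O.bin ha hqa ha0).symm)
      ((O.im_le_x h hq hqY).trans (hsub hu hk))
  · have hqb : b ∈ Fx V q := by
      have := (Fx V q).sub_mem (hsub hq hqY haX) hqab
      rwa [sub_sub_cancel] at this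
    have hb0 : b ≠ 0 := fun e => ha0 (by
      rw [← inv_smul_smul k a, ← hb', e, smul_zero])
    have hqu : q ≠ u := fun e =>
      hb0 (AddSubgroup.mem_bot.mp ((O.fx_inf_im u).le ⟨e ▸ hqb, hbI⟩))
    exact le_inf ((hsubY hq hqY).trans hwY)
      (hu.im_le_fx O.bin hq hqu.symm (hu.commute_of_inter O.bin hbI hqb hb0).symm)

section Three

variable {t s : H} (h : NC V t s) {e : H} (he : Mx V e) (heY : Im V e ≤ Yp V t s)
  (heQ : Nat.card (Im V e) = Nat.card (Im V t))

omit O in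
/-- `r` is linked with `e`. -/
def Linked (V : Type*) [AddCommGroup V] [DistribMulAction H V] (e r : H) : Prop :=
  ∃ B : H, NC V B r ∧ Im V B ≤ Im V r ⊔ Im V e

include h he heY heQ

theorem Odd'.linked_pol {p : H} (hp : Mx V p) (hpY : Yp V t s ≤ Fx V p) (hL : Linked V e p) {r : H}
    (hr : Mx V r) (hrY : Yp V t s ≤ Fx V r) (hrp : r ≠ p) (hrv : r ≠ O.pol h hp hpY) :
    Linked V e (O.pol h hr hrY) := by
  obtain ⟨q, hqp, hqI⟩ := hL
  have hdXY := h.disjoint O.bin O.par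
  have hne_r : ¬ Commute r p := fun c => hrv (O.eq_pol h hp hpY hr hrY hrp c)
  have hqr : NC V q r := by
    refine ⟨hqp.left, hr, fun c => ?_⟩
    by_cases eqr : q = r
    · exfalso
      exact (show False by
        apply hqp.ne
        obtain ⟨a, ha, ha0⟩ := O.im_ne_bot hqp.left
        refine hqp.left.eq_of_im O.bin hp ha ?_ ha0
        obtain ⟨ap, hap, ae, hae, rfl⟩ := AddSubgroup.mem_sup.mp (hqI ha)
        have hX : ae ∈ Xp V t s := by
          have := (Xp V t s).sub_mem (O.im_le_x h hr hrY (eqr ▸ ha)) (O.im_le_x h hp hpY hap)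
          rwa [add_sub_cancel_left] at this
        rw [AddSubgroup.mem_bot.mp (hdXY.le ⟨hX, heY hae⟩), add_zero]
        exact hap)
    have hqfix : Im V q ≤ Fx V r := hr.im_le_fx O.bin hqp.left (Ne.symm eqr) c.symm
    apply hqp.nc
    obtain ⟨a, ha, ha0⟩ := O.im_ne_bot hqp.left
    refine (hqp.left.commute_of_inter O.bin ha ?_ ha0).symm
    obtain ⟨ap, hap, ae, hae, rfl⟩ := AddSubgroup.mem_sup.mp (hqI ha)
    by_cases hap0 : ap = 0
    · rw [hap0, zero_add]; exact hpY (heY hae)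
    · exfalso
      refine hne_r (hp.commute_of_inter O.bin hap ?_ hap0)
      have := (Fx V r).sub_mem (hqfix ha) (hrY (heY hae))
      rwa [add_sub_cancel_right] at this
  have hrY' : Yp V q r ≤ Fx V r := inf_le_right
  set B := O.pol hqr hr hrY' with hB
  have hBm : Mx V B := O.pol_mx hqr hr hrY'
  have hIB : Im V B = Fx V r ⊓ Xp V q r := O.pol_im hqr hr hrY'
  have hQr : Nat.card (Im V r) = Nat.card (Im V t) := h.card_im_of_le O.bin O.par hr hrY
  have hQB : Nat.card (Im V B) = Nat.card (Im V t) := by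
    rw [hqr.card_im_of_le O.bin O.par hBm (O.pol_y hqr hr hrY'), hqr.card_im O.bin, hQr]
  have hsubB : Im V B ≤ Im V (O.pol h hr hrY) ⊔ Im V e := by
    intro z hz
    rw [hIB] at hz
    obtain ⟨aq, haq, ar, har, rfl⟩ := AddSubgroup.mem_sup.mp hz.2
    obtain ⟨ap, hap, ae, hae, rfl⟩ := AddSubgroup.mem_sup.mp (hqI haq)
    rw [show ap + ae + ar = (ap + ar) + ae by abel]
    refine AddSubgroup.add_mem_sup ?_ hae
    rw [O.pol_im h hr hrY]
    refine ⟨?_, (Xp V t s).add_mem (O.im_le_x h hp hpY hap) (O.im_le_x h hr hrY har)⟩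
    have := (Fx V r).sub_mem hz.1 (hrY (heY hae))
    rwa [show ap + ae + ar - ae = ap + ar by abel] at this
  refine ⟨B, ⟨hBm, O.pol_mx h hr hrY, fun c => ?_⟩, hsubB⟩
  -- the two ways in which `B` might commute with the polar
  have hcase : ∀ g : H, Im V g ≤ Xp V q r → Nat.card (Im V g) = Nat.card (Im V t) →
      Im V r ⊓ Im V g = ⊥ → Im V q ≤ Im V r ⊔ Im V g := by
    intro g hg hgQ hd
    have : Im V r ⊔ Im V g = Xp V q r := by
      refine AddSubgroup.eq_of_le_of_card_ge (sup_le le_sup_right hg) ?_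
      rw [hqr.card_plane O.bin O.par, card_eq_mul_of_disjoint hd, hqr.card_im O.bin, hQr, hgQ]
    rw [this]
    exact le_sup_left
  by_cases eB : B = O.pol h hr hrY
  · -- then `q` would lie in the plane
    apply hqp.ne
    obtain ⟨a, ha, ha0⟩ := O.im_ne_bot hqp.left
    have haX : a ∈ Xp V t s := sup_le (O.im_le_x h hr hrY)
      (O.im_le_x h (O.pol_mx h hr hrY) (O.pol_y h hr hrY))
      (hcase _ (eB ▸ (hIB ▸ inf_le_right)) (h.card_im_of_le O.bin O.par (O.pol_mx h hr hrY) (O.pol_y h hr hrY))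
        (eq_bot_iff.mpr fun z hz => (O.fx_inf_im r).le
          ⟨((O.pol_im h hr hrY) ▸ hz.2).1, hz.1⟩) ha)
    refine hqp.left.eq_of_im O.bin hp ha ?_ ha0
    obtain ⟨ap, hap, ae, hae, rfl⟩ := AddSubgroup.mem_sup.mp (hqI ha)
    have hX : ae ∈ Xp V t s := by
      have := (Xp V t s).sub_mem haX (O.im_le_x h hp hpY hap)
      rwa [add_sub_cancel_left] at this
    rw [AddSubgroup.mem_bot.mp (hdXY.le ⟨hX, heY hae⟩), add_zero]
    exact hap
  · have hfix : Im V (O.pol h hr hrY) ≤ Fx V B := hBm.im_le_fx O.bin (O.pol_mx h hr hrY) eB c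
    have hBe : Im V B = Im V e := by
      refine AddSubgroup.eq_of_le_of_card_ge (fun z hz => ?_) (by rw [hQB, heQ])
      obtain ⟨x, hx, ee, hee, rfl⟩ := AddSubgroup.mem_sup.mp (hsubB hz)
      have h1 : O.Perp x (x + ee) := O.perp_im (hfix hx) hz
      have h2 : O.Perp x ee := O.perp_symm (O.perp_yx h (heY hee)
        ((O.pol_im h hr hrY ▸ hx : x ∈ Fx V r ⊓ Xp V t s).2))
      have h3 := O.perp_sub_right h1 h2
      rw [add_sub_cancel_right] at h3
      rw [O.perp_self h3, zero_add]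
      exact hee
    have hd : Im V r ⊓ Im V e = ⊥ := eq_bot_iff.mpr fun z hz =>
      hdXY.le ⟨O.im_le_x h hr hrY hz.1, heY hz.2⟩
    obtain ⟨a, ha, ha0⟩ := O.im_ne_bot hqp.left
    obtain ⟨ar, har, ae', hae', hsum⟩ :=
      AddSubgroup.mem_sup.mp (hcase e (by rw [← hBe, hIB]; exact inf_le_right) heQ hd ha)
    obtain ⟨ap, hap, ae, hae, rfl⟩ := AddSubgroup.mem_sup.mp (hqI ha)
    have heq : ap = ar := by
      have hm : ap - ar ∈ Xp V t s ⊓ Yp V t s :=
        ⟨(Xp V t s).sub_mem (O.im_le_x h hp hpY hap) (O.im_le_x h hr hrY har), by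
          rw [show ap - ar = ae' - ae by
            rw [sub_eq_sub_iff_add_eq_add, ← hsum]; abel]
          exact (Yp V t s).sub_mem (heY hae') (heY hae)⟩
      exact sub_eq_zero.mp (AddSubgroup.mem_bot.mp (hdXY.le hm))
    by_cases hap0 : ap = 0
    · subst hap0
      rw [zero_add] at ha ha0
      exact hqp.nc (hqp.left.commute_of_inter O.bin ha (hpY (heY hae)) ha0).symm
    · exact hrp (hr.eq_of_im O.bin hp (heq ▸ har) hap hap0)

theorem Odd'.linked_all {p : H} (hp : Mx V p) (hpY : Yp V t s ≤ Fx V p) (hL : Linked V e p) {r : H}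
    (hr : Mx V r) (hrY : Yp V t s ≤ Fx V r) : Linked V e r := by
  have hstep : ∀ r (hr : Mx V r) (hrY : Yp V t s ≤ Fx V r), r ≠ p → r ≠ O.pol h hp hpY → Linked V e r := by
    intro r hr hrY h1 h2
    have h3 := O.linked_pol h he heY heQ hp hpY hL (O.pol_mx h hr hrY) (O.pol_y h hr hrY) ?_ ?_
    · rwa [O.pol_pol h hr hrY] at h3
    · intro e'
      subst e'
      exact h2 (O.pol_pol h hr hrY).symm
    · intro e'
      apply h1
      rw [← O.pol_pol h hr hrY, ← O.pol_pol h hp hpY]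
      congr 1
  by_cases h1 : r = p
  · exact h1 ▸ hL
  by_cases h2 : r = O.pol h hp hpY
  · subst h2
    have hc := O.pol_commute h hp hpY
    obtain ⟨r', hr', hrY', h1', h2'⟩ : ∃ r', Mx V r' ∧ Yp V t s ≤ Fx V r' ∧ r' ≠ p ∧ r' ≠ O.pol h hp hpY := by
      by_cases a1 : t = p
      · exact ⟨s, h.right, inf_le_right, fun e => h.ne (a1.trans e.symm),
          fun e => h.nc (a1.symm ▸ e.symm ▸ hc.2.symm)⟩
      by_cases a2 : t = O.pol h hp hpY
      · exact ⟨s, h.right, inf_le_right, fun e => h.nc (a2.symm ▸ e.symm ▸ hc.2),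
          fun e => h.ne (a2.trans e.symm)⟩
      exact ⟨t, h.left, inf_le_left, a1, a2⟩
    refine O.linked_pol h he heY heQ hr' hrY' (hstep r' hr' hrY' h1' h2') hp hpY h1'.symm ?_
    intro e'
    subst e'
    exact h2' (O.pol_pol h hr' hrY').symm
  · exact hstep r hr hrY h1 h2

/-- The three-dimensional configuration is impossible. -/
theorem Odd'.no_three {p₀ : ℕ} [Fact p₀.Prime] (hQp : p₀ ∣ Nat.card (Im V t)) {p : H} (hp : Mx V p)
    (hpY : Yp V t s ≤ Fx V p) (hL : Linked V e p) : False := by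
  classical
  set Q := Nat.card (Im V t) with hQdef
  set X3 := Xp V t s ⊔ Im V e with hX3
  have hQ1 : 1 < Q := by
    obtain ⟨a, ha, ha0⟩ := O.im_ne_bot h.left
    rw [hQdef, Finite.one_lt_card_iff_nontrivial, AddSubgroup.nontrivial_iff_ne_bot]
    exact fun e => ha0 (AddSubgroup.mem_bot.mp (e ▸ ha))
  have hdXY := h.disjoint O.bin O.par
  have hdXe : Xp V t s ⊓ Im V e = ⊥ := eq_bot_iff.mpr ((inf_le_inf_left _ heY).trans hdXY.le)
  have hcard3 : Nat.card X3 = Q * Q * Q := by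
    rw [hX3, card_eq_mul_of_disjoint hdXe, h.card_plane O.bin O.par, heQ]
  -- every vector is in a commutator space of size `Q`
  have hcov : ∀ z ∈ X3, ∃ w : H, Mx V w ∧ z ∈ Im V w ∧ Im V w ≤ X3 ∧ Nat.card (Im V w) = Q := by
    intro z hz
    obtain ⟨x, hx, ee, hee, rfl⟩ := AddSubgroup.mem_sup.mp hz
    obtain ⟨r, hr, hrY, hxr⟩ := O.spread_x h hx
    obtain ⟨B, hBr, hBI⟩ := O.linked_all h he heY heQ hp hpY hL hr hrY
    have hQr : Nat.card (Im V r) = Q := h.card_im_of_le O.bin O.par hr hrY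
    have hpl : Xp V B r = Im V r ⊔ Im V e := by
      refine AddSubgroup.eq_of_le_of_card_ge (sup_le hBI le_sup_left) ?_
      rw [card_eq_mul_of_disjoint (eq_bot_iff.mpr fun z hz => hdXY.le
        ⟨O.im_le_x h hr hrY hz.1, heY hz.2⟩), hBr.card_plane O.bin O.par, hBr.card_im O.bin, hQr, heQ]
    obtain ⟨w, hw, hwY, hzw⟩ := O.spread_x hBr (hpl ▸ AddSubgroup.add_mem_sup hxr hee)
    refine ⟨w, hw, hzw, (O.im_le_x hBr hw hwY).trans (hpl ▸ ?_), ?_⟩
    · exact sup_le ((O.im_le_x h hr hrY).trans le_sup_left) le_sup_right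
    · rw [hBr.card_im_of_le O.bin O.par hw hwY, hBr.card_im O.bin, hQr]
  let S := {w : H // Mx V w ∧ Im V w ≤ X3}
  have hSQ : ∀ w : S, Nat.card (Im V w.1) = Q := by
    intro w
    obtain ⟨a, ha, ha0⟩ := O.im_ne_bot w.2.1
    obtain ⟨v, hv, hav, -, hvQ⟩ := hcov a (w.2.2 ha)
    rwa [w.2.1.eq_of_im O.bin hv ha hav ha0]
  -- counting the members inside a subgroup of `X3`
  have hp0 : (Q : ZMod p₀) = 0 := (ZMod.natCast_eq_zero_iff _ _).mpr hQp
  have hcount : ∀ U : AddSubgroup V, U ≤ X3 →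
      (∀ z ∈ U, z ≠ 0 → ∀ w : S, z ∈ Im V w.1 → Im V w.1 ≤ U) → (Nat.card U : ZMod p₀) = 0 →
      (Nat.card {w : S // Im V w.1 ≤ U} : ZMod p₀) = 1 := by
    intro U hU hclosed hU0
    haveI : Fintype {w : S // Im V w.1 ≤ U} := Fintype.ofFinite _
    let ee : (Σ w : {w : S // Im V w.1 ≤ U}, {z : Im V w.1.1 // z ≠ 0}) ≃ {z : U // z ≠ 0} :=
      Equiv.ofBijective
        (fun q => ⟨⟨(q.2.1 : V), q.1.2 q.2.1.2⟩, fun e => q.2.2 (Subtype.ext (congrArg Subtype.val e :))⟩) ⟨by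
        rintro ⟨⟨⟨w, hw⟩, hwU⟩, ⟨z, hz⟩, hz0⟩ ⟨⟨⟨w', hw'⟩, hwU'⟩, ⟨z', hz'⟩, hz0'⟩ e
        have e' : z = z' := congrArg (fun u : {z : U // z ≠ 0} => (u.1 : V)) e
        subst e'
        have : w = w' := hw.1.eq_of_im O.bin hw'.1 hz hz' (fun e => hz0 (Subtype.ext e))
        subst this
        rfl, by
        rintro ⟨⟨z, hz⟩, hz0⟩
        have hz0' : z ≠ 0 := fun e => hz0 (Subtype.ext e)
        obtain ⟨w, hw, hzw, hwX, -⟩ := hcov z (hU hz)
        exact ⟨⟨⟨⟨w, hw, hwX⟩, hclosed z hz hz0' ⟨w, hw, hwX⟩ hzw⟩, ⟨z, hzw⟩,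
          fun e => hz0' (congrArg Subtype.val e)⟩, rfl⟩⟩
    have hne : ∀ (A : Type _) [AddCommGroup A] [Finite A],
        Nat.card {z : A // z ≠ 0} + 1 = Nat.card A := by
      intro A _ _
      haveI : Fintype A := Fintype.ofFinite _
      rw [Nat.card_eq_fintype_card, Nat.card_eq_fintype_card, Fintype.card_subtype_compl,
        Fintype.card_subtype_eq]
      have := Fintype.card_pos (α := A)
      omega
    have hc := Nat.card_congr ee
    rw [Nat.card_sigma] at hc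
    have hfib : ∀ w : {w : S // Im V w.1 ≤ U}, Nat.card {z : Im V w.1.1 // z ≠ 0} = Q - 1 := fun w => by
      have := hne (Im V w.1.1)
      rw [hSQ] at this
      omega
    rw [Finset.sum_congr rfl fun w _ => hfib w, Finset.sum_const, Finset.card_univ, smul_eq_mul,
      ← Nat.card_eq_fintype_card] at hc
    have hc' := congrArg (fun n : ℕ => ((n + 1 : ℕ) : ZMod p₀)) hc
    simp only [hne U, Nat.cast_add, Nat.cast_mul, Nat.cast_sub hQ1.le, Nat.cast_one, hp0, hU0] at hc'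
    linear_combination -hc'
  have hsplit : ∀ w : S, Nat.card (Fx V w.1 ⊓ X3 : AddSubgroup V) = Q * Q := by
    intro w
    have hd : Im V w.1 ⊓ (Fx V w.1 ⊓ X3) = ⊥ :=
      eq_bot_iff.mpr fun z hz => (O.fx_inf_im w.1).le ⟨hz.2.1, hz.1⟩
    have hs : Im V w.1 ⊔ (Fx V w.1 ⊓ X3) = X3 := by
      rw [← sup_inf_assoc_of_le (Fx V w.1) w.2.2, O.im_sup_fx, top_inf_eq]
    have := card_eq_mul_of_disjoint hd
    rw [hs, hSQ, hcard3, mul_assoc] at this
    exact (Nat.eq_of_mul_eq_mul_left (by omega) this).symm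
  let R : S → S → Prop := fun a b => Im V b.1 ≤ Fx V a.1
  have hclosedF : ∀ (w : S) (z : V), z ∈ Fx V w.1 → z ≠ 0 → ∀ v : S, z ∈ Im V v.1 → Im V v.1 ≤ Fx V w.1 := by
    intro w z hzF hz0 v hzv
    refine w.2.1.im_le_fx O.bin v.2.1 (fun e => hz0 ?_) (v.2.1.commute_of_inter O.bin hzv hzF hz0)
    exact AddSubgroup.mem_bot.mp ((O.fx_inf_im w.1).le ⟨hzF, e ▸ hzv⟩)
  refine no_polarity (p := p₀) R (fun a ha => O.not_im_le_fx a.2.1 ha) ?_ ?_ ?_ ?_
  · intro a b hab x hx
    obtain ⟨c, hc, hc0⟩ := O.im_ne_bot b.2.1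
    exact O.fx_of_perp b.2.1 hc hc0 (O.perp_symm (O.perp_im (hab hc) hx))
  · intro a
    rw [← hcount (Fx V a.1 ⊓ X3) inf_le_right
      (fun z hz hz0 v hv => le_inf (hclosedF a z hz.1 hz0 v hv) v.2.2)
      (by rw [hsplit, Nat.cast_mul, hp0, zero_mul])]
    congr 1
    exact Nat.card_congr (Equiv.subtypeEquivRight fun b => ⟨fun q => le_inf q b.2.2, fun q => q.trans inf_le_left⟩)
  · intro a b hab
    set Z := Fx V a.1 ⊓ Fx V b.1 ⊓ X3 with hZ
    have hQZ : Q ≤ Nat.card Z := by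
      let f : (Fx V a.1 ⊓ X3 : AddSubgroup V) →+ V := (dl b.1).comp (AddSubgroup.subtype _)
      have h1 := AddSubgroup.card_mul_index f.ker
      rw [AddSubgroup.index_ker, hsplit a] at h1
      have h2 : Nat.card f.range ≤ Q := by
        rw [← hSQ b]
        refine AddSubgroup.card_le_of_le ?_
        rintro _ ⟨u, rfl⟩
        exact ⟨(u : V), rfl⟩
      have h3 : Nat.card f.ker ≤ Nat.card Z := by
        refine Nat.card_le_card_of_injective
          (fun u => (⟨(u.1 : V), ⟨u.1.2.1, u.2⟩, u.1.2.2⟩ : Z)) ?_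
        intro u v e
        exact Subtype.ext (Subtype.ext (congrArg (fun q : Z => (q : V)) e))
      by_contra hlt
      push Not at hlt
      have : Nat.card f.ker * Nat.card f.range < Q * Q :=
        Nat.mul_lt_mul_of_lt_of_le (h3.trans_lt hlt) h2 (by omega)
      omega
    have hZQ : Nat.card Z ≤ Q := by
      have hd : Im V a.1 ⊓ Im V b.1 = ⊥ := by
        rw [eq_bot_iff]
        rintro z ⟨hza, hzb⟩
        by_contra hz0
        exact hab (Subtype.ext (a.2.1.eq_of_im O.bin b.2.1 hza hzb hz0))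
      have hd2 : (Im V a.1 ⊔ Im V b.1) ⊓ Z = ⊥ := by
        rw [eq_bot_iff]
        rintro z ⟨hz, ⟨hza, hzb⟩, -⟩
        obtain ⟨x, hx, y, hy, rfl⟩ := AddSubgroup.mem_sup.mp hz
        exact O.perp_self (O.perp_add_right (O.perp_im hza hx) (O.perp_im hzb hy))
      have h1 := mul_le_of_disjoint (X := X3) (sup_le a.2.2 b.2.2) inf_le_right hd2
      rw [card_eq_mul_of_disjoint hd, hSQ, hSQ, hcard3] at h1
      exact Nat.le_of_mul_le_mul_left h1 (Nat.mul_pos (by omega) (by omega))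
    obtain ⟨z, hz, hz0⟩ : ∃ z ∈ Z, z ≠ 0 := by
      refine (AddSubgroup.bot_or_exists_ne_zero Z).resolve_left fun e => ?_
      rw [e, AddSubgroup.card_bot] at hQZ
      omega
    obtain ⟨v, hv, hzv, hvX, -⟩ := hcov z hz.2
    have hvZ : Im V v ≤ Z := le_inf (le_inf (hclosedF a z hz.1.1 hz0 ⟨v, hv, hvX⟩ hzv)
      (hclosedF b z hz.1.2 hz0 ⟨v, hv, hvX⟩ hzv)) hvX
    have hvZeq : Im V v = Z := AddSubgroup.eq_of_le_of_card_ge hvZ (by rw [hSQ ⟨v, hv, hvX⟩]; exact hZQ)
    rw [Nat.card_eq_one_iff_unique]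
    refine ⟨⟨fun c d => ?_⟩, ⟨⟨⟨v, hv, hvX⟩, hvZ.trans (inf_le_left.trans inf_le_left),
      hvZ.trans (inf_le_left.trans inf_le_right)⟩⟩⟩
    have key : ∀ c : {c : S // R a c ∧ R b c}, c.1.1 = v := fun c => by
      obtain ⟨x, hx, hx0⟩ := O.im_ne_bot c.1.2.1
      exact c.1.2.1.eq_of_im O.bin hv hx (hvZeq ▸ (le_inf (le_inf c.2.1 c.2.2) c.1.2.2) hx) hx0
    exact Subtype.ext (Subtype.ext ((key c).trans (key d).symm))
  · rw [← hcount X3 le_rfl (fun _ _ _ v _ => v.2.2) (by rw [hcard3, Nat.cast_mul, hp0, mul_zero])]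
    congr 1
    exact Nat.card_congr (Equiv.subtypeUnivEquiv fun w => w.2.2).symm

end Three

/-- Two non-commuting maximal elements fill the space. -/
theorem Odd'.y_eq_bot (hirr : Irr H V) {p₀ : ℕ} [Fact p₀.Prime] (hpQ : ∀ U : AddSubgroup V, U ≠ ⊥ → p₀ ∣ Nat.card U)
    {t s : H} (h : NC V t s) : Yp V t s = ⊥ := by
  by_contra hY
  obtain ⟨q, w, hw, hwY, hqw, hqY⟩ := O.exists_out hirr h hY
  obtain ⟨a, ha, ha0⟩ := O.im_ne_bot hqw.left
  obtain ⟨v, hv, hvY, hav⟩ := h.cover O.bin O.par a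
  have hqv : v ≠ q := fun e => hqY (e ▸ hvY)
  have hvq : Commute v q := hqw.left.commute_of_inter O.bin ha hav ha0
  set p := O.pol h hv hvY with hpdef
  have hp : Mx V p := O.pol_mx h hv hvY
  have hpY : Yp V t s ≤ Fx V p := O.pol_y h hv hvY
  have hqp : NC V q p := by
    refine ⟨hqw.left, hp, fun c => hqw.nc ?_⟩
    have hqne : q ≠ p := fun e => hqY (e ▸ hpY)
    have h1 : Im V v ≤ Fx V q := hqw.left.im_le_fx O.bin hv hqv.symm hvq.symm
    have h2 : Im V p ≤ Fx V q := hqw.left.im_le_fx O.bin hp hqne c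
    have hX : Xp V t s ≤ Fx V q := by
      refine le_trans (le_of_eq ?_) (sup_le h1 h2)
      refine (AddSubgroup.eq_of_le_of_card_ge (sup_le (O.im_le_x h hv hvY) (O.im_le_x h hp hpY)) ?_).symm
      rw [h.card_plane O.bin O.par, card_eq_mul_of_disjoint, h.card_im_of_le O.bin O.par hv hvY,
        h.card_im_of_le O.bin O.par hp hpY]
      rw [eq_bot_iff]
      rintro z ⟨hz, hz'⟩
      rw [hpdef, O.pol_im h hv hvY] at hz'
      exact (O.fx_inf_im v).le ⟨hz'.1, hz⟩
    obtain ⟨b, hb, hb0⟩ := O.im_ne_bot hw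
    exact hw.commute_of_inter O.bin hb (hX (O.im_le_x h hw hwY hb)) hb0
  have hsub : Xp V q p ≤ Fx V v := sup_le
    (hv.im_le_fx O.bin hqw.left hqv hvq) (by rw [hpdef, O.pol_im h hv hvY]; exact inf_le_left)
  have hpY' : Yp V q p ≤ Fx V p := inf_le_right
  set e := O.pol hqp hp hpY' with he'
  have he : Mx V e := O.pol_mx hqp hp hpY'
  have heI : Im V e = Fx V p ⊓ Xp V q p := O.pol_im hqp hp hpY'
  have heY : Im V e ≤ Yp V t s := by
    intro z hz
    rw [heI] at hz
    obtain ⟨x, hx, y, hy, rfl⟩ := h.decomp O.bin O.par z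
    have hxv : x ∈ Fx V v := by
      have := (Fx V v).sub_mem (hsub hz.2) (hvY hy)
      rwa [add_sub_cancel_right] at this
    have hxp : x ∈ Fx V p := by
      have := (Fx V p).sub_mem hz.1 (hpY hy)
      rwa [add_sub_cancel_right] at this
    have h1 : x ∈ Im V p := by rw [hpdef, O.pol_im h hv hvY]; exact ⟨hxv, hx⟩
    rw [AddSubgroup.mem_bot.mp ((O.fx_inf_im p).le ⟨hxp, h1⟩), zero_add]
    exact hy
  have hQp : Nat.card (Im V p) = Nat.card (Im V t) := h.card_im_of_le O.bin O.par hp hpY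
  have heQ : Nat.card (Im V e) = Nat.card (Im V t) := by
    rw [hqp.card_im_of_le O.bin O.par he (O.pol_y hqp hp hpY'), hqp.card_im O.bin, hQp]
  have hsum : Im V p ⊔ Im V e = Xp V q p := by
    have hd : Im V p ⊓ Im V e = ⊥ := eq_bot_iff.mpr fun z hz => by
      rw [heI] at hz
      exact (O.fx_inf_im p).le ⟨hz.2.1, hz.1⟩
    refine AddSubgroup.eq_of_le_of_card_ge (sup_le le_sup_right (heI ▸ inf_le_right)) ?_
    rw [card_eq_mul_of_disjoint hd, hqp.card_plane O.bin O.par, hqp.card_im O.bin, hQp, heQ]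
  refine O.no_three h he heY heQ (hpQ _ ?_) hp hpY ⟨q, hqp, hsum ▸ le_sup_left⟩
  intro e'
  obtain ⟨b, hb, hb0⟩ := O.im_ne_bot h.left
  exact hb0 (AddSubgroup.mem_bot.mp (e' ▸ hb))

/-- In odd characteristic the group is `±1` or we are in the plane situation. -/
theorem Odd'.dichotomy (hirr : Irr H V) {p₀ : ℕ} [Fact p₀.Prime]
    (hpQ : ∀ U : AddSubgroup V, U ≠ ⊥ → p₀ ∣ Nat.card U) (hne : ∃ h : H, h ≠ 1) :
    (∀ h : H, h ≠ 1 → ∀ v : V, h • v = -v) ∨ ∃ Q, Planar H V Q := by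
  obtain ⟨h₀, hh₀⟩ := hne
  obtain ⟨t, ht, -⟩ := exists_mx (V := V) hh₀
  by_cases hnc : ∃ t' s' : H, NC V t' s'
  · right
    obtain ⟨t, s, h⟩ := hnc
    have hY := O.y_eq_bot hirr hpQ h
    have hX : Xp V t s = ⊤ := by
      have := h.sup_eq_top O.bin O.par
      rwa [hY, sup_bot_eq] at this
    have hle : ∀ w : H, Yp V t s ≤ Fx V w := fun w => hY ▸ bot_le
    have hfx : ∀ w (hw : Mx V w), Im V (O.pol h hw (hle w)) = Fx V w := fun w hw => by
      rw [O.pol_im h hw (hle w), hX, inf_top_eq]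
    set Q := Nat.card (Im V t) with hQ
    have himQ : ∀ w : H, Mx V w → Nat.card (Im V w) = Q := fun w hw =>
      h.card_im_of_le O.bin O.par hw (hle w)
    have hfixed : ∀ z : V, z ≠ 0 → ∃ w : H, Mx V w ∧ z ∈ Fx V w := fun z _ => by
      obtain ⟨w, hw, -, hz⟩ := h.cover O.bin O.par z
      exact ⟨w, hw, hz⟩
    have huniq : ∀ z : V, z ≠ 0 → ∀ w w' : H, Mx V w → Mx V w' → z ∈ Fx V w → z ∈ Fx V w' → w = w' := by
      intro z hz w w' hw hw' hzw hzw'
      have e : O.pol h hw (hle w) = O.pol h hw' (hle w') :=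
        (O.pol_mx h hw (hle w)).eq_of_im O.bin (O.pol_mx h hw' (hle w'))
          ((hfx w hw).symm ▸ hzw) ((hfx w' hw').symm ▸ hzw') hz
      rw [← O.pol_pol h hw (hle w), ← O.pol_pol h hw' (hle w')]
      congr 1
    refine ⟨Q, ?_, ?_, himQ, ?_, hfixed, huniq, ?_⟩
    · rw [← AddSubgroup.card_top (G := V), ← hX, h.card_plane O.bin O.par]
    · obtain ⟨a, ha, ha0⟩ := O.im_ne_bot h.left
      rw [hQ, Finite.one_lt_card_iff_nontrivial, AddSubgroup.nontrivial_iff_ne_bot]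
      exact fun e => ha0 (AddSubgroup.mem_bot.mp (e ▸ ha))
    · intro z _
      obtain ⟨w, hw, -, hz⟩ := O.spread_x h (hX ▸ AddSubgroup.mem_top z : z ∈ Xp V t s)
      exact ⟨w, hw, hz⟩
    · intro z hz g w hw hzg hzw d hd'
      have h1 : d ∈ Fx V (O.pol h hw (hle w)) :=
        O.fx_of_perp (O.pol_mx h hw (hle w)) ((hfx w hw).symm ▸ hzw) hz
          (O.perp_symm (O.perp_im hzg hd'))
      rw [O.pol_fx h hw (hle w), hX, inf_top_eq]
      exact h1
  · left
    have hcomm : ∀ {a b : H}, Mx V a → Mx V b → Commute a b := fun ha hb => by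
      by_contra hc
      exact hnc ⟨_, _, ha, hb, hc⟩
    -- `t` is central
    have hcent : ∀ k : H, k * t * k⁻¹ = t := by
      intro k
      by_contra hk
      set u := k * t * k⁻¹ with hu'
      have hu : Mx V u := ht.conj k
      obtain ⟨a, ha, ha0⟩ := O.im_ne_bot ht
      have hbI : k • a ∈ Im V u := by rw [hu', im_conj, inv_smul_smul]; exact ha
      have hb0 : k • a ≠ 0 := fun e => ha0 (by rw [← inv_smul_smul k a, e, smul_zero])
      have hut : Im V t ≤ Fx V u := hu.im_le_fx O.bin ht hk (hcomm hu ht)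
      have htu : Im V u ≤ Fx V t := ht.im_le_fx O.bin hu (Ne.symm hk) (hcomm ht hu)
      have hab0 : a + k • a ≠ 0 := fun e => ha0 (AddSubgroup.mem_bot.mp ((O.fx_inf_im t).le
        ⟨by rw [eq_neg_of_add_eq_zero_left e]; exact (Fx V t).neg_mem (htu hbI), ha⟩))
      obtain ⟨q, hq, hqab, hqperp⟩ := O.swap_elem (a := a) (b := k • a) rfl hab0
      have hfix : Fx V t ⊓ Fx V u ≤ Fx V q := fun y hy =>
        hqperp y (O.perp_im hy.1 ha) (O.perp_im hy.2 hbI)
      have hqt : q ≠ t := fun e => ha0 (AddSubgroup.mem_bot.mp ((O.fx_inf_im t).le ⟨by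
        have := (Fx V t).add_mem (e ▸ hqab) (htu hbI)
        rwa [sub_add_cancel] at this, ha⟩))
      have hqu : q ≠ u := fun e => hb0 (AddSubgroup.mem_bot.mp ((O.fx_inf_im u).le ⟨by
        have := (Fx V u).sub_mem (hut ha) (e ▸ hqab)
        rwa [sub_sub_cancel] at this, hbI⟩))
      exact O.not_im_le_fx hq ((le_inf (ht.im_le_fx O.bin hq hqt.symm (hcomm ht hq))
        (hu.im_le_fx O.bin hq hqu.symm (hcomm hu hq))).trans hfix)
    have htf : Fx V t = ⊥ := by
      rcases hirr (Fx V t) (fun k v hv => fx_smul_of_commute (mul_inv_eq_iff_eq_mul.mp (hcent k)) hv) with e | e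
      · exact e
      · exact absurd (ext_smul (V := V) fun v => by
          rw [one_smul]; exact mem_fx.mp (e ▸ AddSubgroup.mem_top v)) ht.ne
    have hti : Im V t = ⊤ := by
      apply AddSubgroup.eq_top_of_le_card
      have := fx_im_card (V := V) t
      rw [htf, AddSubgroup.card_bot, one_mul] at this
      exact this.ge
    intro h hh v
    by_cases hv0 : v = 0
    · rw [hv0, smul_zero, neg_zero]
    have hmove : h • v - v ≠ 0 := fun e => hv0 (AddSubgroup.mem_bot.mp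
      (htf ▸ ht.max h hh (htf ▸ bot_le) (mem_fx.mpr (sub_eq_zero.mp e))))
    have h1 := (ht.spec O.bin (d := h • v - v) (x := v) (h := h)
      (hti ▸ AddSubgroup.mem_top _) hmove (by abel)).1
    rw [ht.neg O.bin (hti ▸ AddSubgroup.mem_top _), add_sub_cancel] at h1
    exact h1.symm

end Cfsg.Agent.BinaryAffine
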