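import Cfsg.Agent.Lib.BinaryAffine.Two
import Cfsg.Agent.Lib.BinaryAffine.Odd
import Cfsg.Agent.Lib.BinaryAffine.Field
import Cfsg.Agent.Lib.PermGp.Basic

/-!
Binary irreducible affine groups: either `|V|` is prime and `|H| ≤ 2`, or `V` is a quadratic field extension
on which `H` is generated by the elements of norm one and the field automorphism.
-/

set_option autoImplicit false
set_option linter.unusedSectionVars false

namespace Cfsg.Agent.BinaryAffine

variable {H V : Type*} [Group H] [AddCommGroup V] [DistribMulAction H V] [FaithfulSMul H V]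
  [Finite H] [Finite V] [Nontrivial V]

theorem prime_of_line (hirr : Irr H V) (hH : ∀ h : H, ∀ v : V, h • v = v ∨ h • v = -v) {p : ℕ}
    (hp : p.Prime) (hexp : ∀ v : V, p • v = 0) : (Nat.card V).Prime := by
  obtain ⟨z, hz⟩ := exists_ne (0 : V)
  rcases hirr (AddSubgroup.zmultiples z) (fun h u hu => by
    rcases hH h u with e | e <;> rw [e]
    · exact hu
    · exact (AddSubgroup.zmultiples z).neg_mem hu) with e | e
  · exact absurd (AddSubgroup.zmultiples_eq_bot.mp e) hz
  · have hcard : Nat.card V = addOrderOf z := by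
      rw [← Nat.card_zmultiples z, e, AddSubgroup.card_top]
    haveI := Fact.mk hp
    rw [hcard, addOrderOf_eq_prime (hexp z) hz]
    exact hp

/-- The classification. -/
theorem classify (hb : Bin H V) (hirr : Irr H V) {p : ℕ} (hp : p.Prime) (hexp : ∀ v : V, p • v = 0) :
    ((Nat.card V).Prime ∧ Nat.card H ≤ 2) ∨ ∃ Q, Planar H V Q := by
  haveI := Fact.mk hp
  by_cases hne : ∃ h : H, h ≠ 1
  swap
  · push Not at hne
    have : Subsingleton H := ⟨fun a b => by rw [hne a, hne b]⟩
    exact Or.inl ⟨prime_of_line hirr (fun h v => Or.inl (by rw [hne h, one_smul])) hp hexp,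
      le_trans (Finite.card_le_one_iff_subsingleton.mpr this) one_le_two⟩
  by_cases h2 : p = 2
  · subst h2
    exact Or.inr (exists_planar (fun v => by rw [← two_nsmul]; exact hexp v) hb hirr hne)
  have hodd : ∀ v : V, v + v = 0 → v = 0 := by
    intro v hv
    by_contra hv0
    have h1 : addOrderOf v = p := addOrderOf_eq_prime (hexp v) hv0
    have h2' : addOrderOf v ∣ 2 := addOrderOf_dvd_of_nsmul_eq_zero (by rw [two_nsmul]; exact hv)
    rw [h1] at h2'
    exact h2 ((Nat.prime_dvd_prime_iff_eq hp Nat.prime_two).mp h2')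
  have O : Odd' H V := ⟨hb, exists_neg hb hirr hne, hodd⟩
  have hpQ : ∀ U : AddSubgroup V, U ≠ ⊥ → p ∣ Nat.card U := by
    intro U hU
    obtain ⟨u, hu, hu0⟩ := (AddSubgroup.bot_or_exists_ne_zero U).resolve_left hU
    rw [← addOrderOf_eq_prime (hexp u) hu0]
    exact U.addOrderOf_dvd_natCard hu
  rcases O.dichotomy hirr hpQ hne with h | h
  · refine Or.inl ⟨prime_of_line hirr (fun g v => ?_) hp hexp, ?_⟩
    · by_cases hg : g = 1
      · exact Or.inl (by rw [hg, one_smul])
      · exact Or.inr (h g hg v)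
    · obtain ⟨g₀, hg₀⟩ := hne
      classical
      haveI : Fintype H := Fintype.ofFinite H
      have hsub : (Finset.univ : Finset H) ⊆ {1, g₀} := fun g _ => by
        rw [Finset.mem_insert, Finset.mem_singleton]
        by_cases hg : g = 1
        · exact Or.inl hg
        · exact Or.inr (ext_smul (V := V) fun v => by rw [h g hg v, h g₀ hg₀ v])
      rw [Nat.card_eq_fintype_card, ← Finset.card_univ]
      exact (Finset.card_le_card hsub).trans Finset.card_le_two
  · exact Or.inr h

section Bridge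

variable {E : Type} [Field E] [Fintype E] {Q : ℕ}

/-- The fixed field of an involutive automorphism. -/
def fixedF (φ : E ≃+* E) : Subfield E where
  carrier := {x | φ x = x}
  zero_mem' := map_zero φ
  one_mem' := map_one φ
  add_mem' := fun {a b} ha hb => by simp_all [map_add]
  mul_mem' := fun {a b} ha hb => by simp_all [map_mul]
  neg_mem' := fun {a} ha => by simp_all [map_neg]
  inv_mem' := fun a ha => by simp_all [map_inv₀]

variable (φ : E ≃+* E) (hφ : ∀ x, φ (φ x) = x) (hθ : ∃ θ, φ θ ≠ θ)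

include hφ hθ

theorem quad_decomp : ∃ θ : E, φ θ ≠ θ ∧ ∀ e : E, ∃ a b : fixedF φ, e = a + b * θ := by
  obtain ⟨θ, hne⟩ := hθ
  refine ⟨θ, hne, fun e => ?_⟩
  have hd : θ - φ θ ≠ 0 := sub_ne_zero.mpr (Ne.symm hne)
  have hb : (e - φ e) / (θ - φ θ) ∈ fixedF φ := by
    show φ _ = _
    rw [map_div₀, map_sub, map_sub, hφ, hφ, ← neg_sub e (φ e), ← neg_sub θ (φ θ), neg_div_neg_eq]
  set b := (e - φ e) / (θ - φ θ) with hbdef
  have hbb : φ b = b := hb
  have hbd : b * (θ - φ θ) = e - φ e := div_mul_cancel₀ _ hd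
  refine ⟨⟨e - b * θ, ?_⟩, ⟨b, hb⟩, by simp⟩
  show φ (e - b * θ) = e - b * θ
  rw [map_sub, map_mul, hbb]
  linear_combination hbd

theorem card_fixedF : Fintype.card E = Nat.card (fixedF φ) ^ 2 := by
  obtain ⟨θ, hne, hdec⟩ := quad_decomp φ hφ hθ
  rw [← Nat.card_eq_fintype_card, pow_two, ← Nat.card_prod]
  refine (Nat.card_eq_of_bijective (fun q : fixedF φ × fixedF φ => (q.1 : E) + q.2 * θ) ⟨?_, ?_⟩).symm
  · rintro ⟨⟨a, ha⟩, ⟨b, hb⟩⟩ ⟨⟨a', ha'⟩, ⟨b', hb'⟩⟩ e
    have e1 : a + b * θ = a' + b' * θ := e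
    have e2 : a + b * φ θ = a' + b' * φ θ := by
      have := congrArg φ e1
      rwa [map_add, map_add, map_mul, map_mul, ha, ha', hb, hb'] at this
    have hbb : (b - b') * (θ - φ θ) = 0 := by linear_combination e1 - e2
    have hbe : b = b' := sub_eq_zero.mp ((mul_eq_zero.mp hbb).resolve_right (sub_ne_zero.mpr (Ne.symm hne)))
    subst hbe
    have : a = a' := add_right_cancel e1
    subst this
    rfl
  · intro e
    obtain ⟨a, b, rfl⟩ := hdec e
    exact ⟨(a, b), rfl⟩

theorem algEquiv_eq (ψ : E ≃ₐ[fixedF φ] E) : (∀ x, ψ x = x) ∨ ∀ x, ψ x = φ x := by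
  obtain ⟨θ, hne, hdec⟩ := quad_decomp φ hφ hθ
  have hs : θ + φ θ ∈ fixedF φ := by show φ _ = _; rw [map_add, hφ, add_comm]
  have hm : θ * φ θ ∈ fixedF φ := by show φ _ = _; rw [map_mul, hφ, mul_comm]
  have hF : ∀ a : fixedF φ, ψ (a : E) = a := fun a => ψ.commutes a
  have hroot : (ψ θ - θ) * (ψ θ - φ θ) = 0 := by
    have h0 : θ * θ - (θ + φ θ) * θ + θ * φ θ = 0 := by ring
    have := congrArg ψ h0
    rw [map_add, map_sub, map_mul, map_mul, hF ⟨_, hs⟩, hF ⟨_, hm⟩, map_zero] at this
    linear_combination this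
  have hext : ∀ x : E, ∃ a b : fixedF φ, x = a + b * θ ∧ ψ x = a + b * ψ θ := fun x => by
    obtain ⟨a, b, rfl⟩ := hdec x
    exact ⟨a, b, rfl, by rw [map_add, map_mul, hF, hF]⟩
  rcases mul_eq_zero.mp hroot with h | h
  · refine Or.inl fun x => ?_
    obtain ⟨a, b, rfl, h'⟩ := hext x
    rw [h', sub_eq_zero.mp h]
  · refine Or.inr fun x => ?_
    obtain ⟨a, b, rfl, h'⟩ := hext x
    rw [h', sub_eq_zero.mp h, map_add, map_mul, show φ (a : E) = a from a.2, show φ (b : E) = b from b.2]

/-- `φ` over its fixed field. -/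
def algφ : E ≃ₐ[fixedF φ] E := AlgEquiv.ofRingEquiv (f := φ) fun a => a.2

theorem finrank_fixedF : Module.finrank (fixedF φ) E = 2 := by
  haveI : Fintype (fixedF φ) := Fintype.ofFinite _
  have h := Module.card_eq_pow_finrank (K := fixedF φ) (V := E)
  rw [card_fixedF φ hφ hθ, Nat.card_eq_fintype_card] at h
  exact (Nat.pow_right_injective (Fintype.one_lt_card) h).symm

theorem norm_eq_one_iff (hQ : Fintype.card E = Q * Q) (a : E) :
    Algebra.norm (fixedF φ) a = 1 ↔ a ^ (Q + 1) = 1 := by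
  have hcard : Nat.card (fixedF φ) = Q := by
    have := card_fixedF φ hφ hθ
    rw [hQ, ← pow_two] at this
    exact (Nat.pow_left_injective two_ne_zero this).symm
  have h1 : 1 < Q := by
    rw [← hcard]
    exact Finite.one_lt_card
  have h2 := FiniteField.algebraMap_norm_eq_pow (K := fixedF φ) (x := a)
  have he : (Nat.card E - 1) / (Nat.card (fixedF φ) - 1) = Q + 1 := by
    rw [Nat.card_eq_fintype_card (α := E), hQ, hcard]
    have : Q * Q - 1 = (Q + 1) * (Q - 1) := by
      obtain ⟨q, rfl⟩ : ∃ q, Q = q + 1 := ⟨Q - 1, by omega⟩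
      rw [Nat.add_sub_cancel]
      have : (q + 1) * (q + 1) = (q + 1 + 1) * q + 1 := by ring
      omega
    rw [this, Nat.mul_div_cancel _ (by omega)]
  rw [he] at h2
  rw [← h2]
  constructor
  · intro h; rw [h, map_one]
  · intro h; exact (algebraMap (fixedF φ) E).injective (h.trans (map_one _).symm)

end Bridge

end Cfsg.Agent.BinaryAffine
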