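import Cfsg.Agent.Lib.BinaryAffine.Count

/-!
Binary irreducible affine groups of odd characteristic: `-1` is in the group, perpendicularity is a
symmetric relation, and in a plane every maximal involution has a polar.
-/

set_option autoImplicit false
set_option linter.unusedSectionVars false

namespace Cfsg.Agent.BinaryAffine

variable {H V : Type*} [Group H] [AddCommGroup V] [DistribMulAction H V] [FaithfulSMul H V]
  [Finite H] [Finite V]

theorem exists_neg (hb : Bin H V) (hirr : Irr H V) (hne : ∃ h : H, h ≠ 1) :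
    ∃ j : H, ∀ v : V, j • v = -v := by
  obtain ⟨h, hh⟩ := hne
  obtain ⟨x, d, hd0, hx⟩ := exists_move (V := V) hh
  obtain ⟨j, hj⟩ := hb (MulAction.orbit H x) (fun v => -v) (by
    rintro u hu v hv
    obtain ⟨k, hk⟩ : ∃ k : H, k • v = u := by
      obtain ⟨a, rfl⟩ := hu
      obtain ⟨b, rfl⟩ := hv
      exact ⟨a * b⁻¹, by simp [mul_smul]⟩
    have hk' : k • v = v + (u - v) := by rw [hk]; abel
    exact ⟨hd hb (u - v), by rw [hd_neg hb hk']; abel⟩)
  refine ⟨j, ?_⟩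
  let U : AddSubgroup V :=
    AddSubgroup.closure {z | ∃ u ∈ MulAction.orbit H x, ∃ v ∈ MulAction.orbit H x, u - v = z}
  have hU : ∀ k : H, ∀ z ∈ U, k • z ∈ U := by
    intro k z hz
    induction hz using AddSubgroup.closure_induction with
    | mem z hz =>
      obtain ⟨u, hu, v, hv, rfl⟩ := hz
      exact AddSubgroup.subset_closure ⟨k • u, MulAction.mem_orbit_of_mem_orbit k hu, k • v,
        MulAction.mem_orbit_of_mem_orbit k hv, (smul_sub k u v).symm⟩
    | zero => rw [smul_zero]; exact U.zero_mem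
    | add a b _ _ ha hb => rw [smul_add]; exact U.add_mem ha hb
    | neg a _ ha => rw [smul_neg]; exact U.neg_mem ha
  have hdU : d ∈ U := AddSubgroup.subset_closure
    ⟨h • x, MulAction.mem_orbit x h, x, MulAction.mem_orbit_self x, by rw [hx]; abel⟩
  rcases hirr U hU with e | e
  · exact absurd (AddSubgroup.mem_bot.mp (e ▸ hdU)) hd0
  intro v
  have hv : v ∈ U := e ▸ AddSubgroup.mem_top v
  induction hv using AddSubgroup.closure_induction with
  | mem z hz =>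
    obtain ⟨u, hu, w, hw, rfl⟩ := hz
    rw [hj u hu w hw]; abel
  | zero => rw [smul_zero, neg_zero]
  | add a b _ _ ha hb => rw [smul_add, ha, hb, neg_add]
  | neg a _ ha => rw [smul_neg, ha]

/-- The standing hypotheses in odd characteristic. -/
structure Odd' (H V : Type*) [Group H] [AddCommGroup V] [DistribMulAction H V] : Prop where
  bin : Bin H V
  neg : ∃ j : H, ∀ v : V, j • v = -v
  two : ∀ v : V, v + v = 0 → v = 0

variable (O : Odd' H V)

include O

theorem Odd'.par : Par V := Or.inr O.two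

theorem Odd'.half (v : V) : ∃ c : V, c + c = v :=
  Finite.surjective_of_injective (f := fun c : V => c + c) (fun a b e => sub_eq_zero.mp
    (O.two _ (by
      have e' : a + a = b + b := e
      rw [show a - b + (a - b) = a + a - (b + b) by abel, e', sub_self]))) v

theorem Odd'.add_self_ne {v : V} (hv : v ≠ 0) : v + v ≠ 0 := fun e => hv (O.two v e)

theorem Odd'.add_self_inj {a b : V} (e : a + a = b + b) : a = b :=
  sub_eq_zero.mp (O.two _ (by rw [show a - b + (a - b) = a + a - (b + b) by abel, e, sub_self]))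

omit O in
/-- The element realising the translations by `2c`. -/
noncomputable def Odd'.rr (O : Odd' H V) (c : V) : H := hd O.bin (c + c)

theorem Odd'.rr_spec {c x : V} {h : H} (hx : h • x = x + (c + c)) :
    O.rr c • x = x + (c + c) ∧ Fx V h ≤ Fx V (O.rr c) :=
  ⟨hd_spec O.bin hx, hd_fix O.bin hx⟩

theorem Odd'.rr_self (c : V) : O.rr c • c = -c := by
  obtain ⟨j, hj⟩ := O.neg
  have := (O.rr_spec (h := j) (c := c) (x := -c) (by rw [hj]; abel)).1
  rw [smul_neg, neg_eq_iff_eq_neg] at this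
  rw [this]; abel

/-- Perpendicular vectors. -/
def Odd'.Perp (a c : V) : Prop := a ∈ Fx V (O.rr c)

theorem Odd'.perp_symm {a c : V} (h : O.Perp a c) : O.Perp c a := by
  obtain ⟨j, hj⟩ := O.neg
  have hca : (j * O.rr c) • (c - a) = c - a + (a + a) := by
    rw [mul_smul, hj, smul_sub, O.rr_self, mem_fx.mp h]; abel
  have h1 := (O.rr_spec hca).1
  rw [smul_sub, O.rr_self] at h1
  rw [Odd'.Perp, mem_fx]
  have h2 : O.rr a • c = c - a + (a + a) + -a := by rw [← h1]; abel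
  rw [h2]; abel

theorem Odd'.perp_add_right {a c c' : V} (h : O.Perp a c) (h' : O.Perp a c') : O.Perp a (c + c') :=
  O.perp_symm ((Fx V (O.rr a)).add_mem (O.perp_symm h) (O.perp_symm h'))

theorem Odd'.perp_sub_right {a c c' : V} (h : O.Perp a c) (h' : O.Perp a c') : O.Perp a (c - c') :=
  O.perp_symm ((Fx V (O.rr a)).sub_mem (O.perp_symm h) (O.perp_symm h'))

theorem Odd'.perp_self {c : V} (h : O.Perp c c) : c = 0 := by
  have := mem_fx.mp h
  rw [O.rr_self] at this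
  exact O.two c (by nth_rewrite 1 [← this]; exact neg_add_cancel c)

theorem Odd'.perp_im {h : H} {a i : V} (ha : a ∈ Fx V h) (hi : i ∈ Im V h) : O.Perp a i := by
  obtain ⟨c, rfl⟩ := O.half i
  obtain ⟨x, hx⟩ := mem_im.mp hi
  have h1 : O.Perp a c := (O.rr_spec hx).2 ha
  exact O.perp_add_right h1 h1

theorem Odd'.rr_eq {g : H} (hg : Mx V g) {c : V} (hc : c ∈ Im V g) (hc0 : c ≠ 0) : O.rr c = g :=
  hg.hd_eq O.bin ((Im V g).add_mem hc hc) (O.add_self_ne hc0)

theorem Odd'.fx_of_perp {g : H} (hg : Mx V g) {a c : V} (hc : c ∈ Im V g) (hc0 : c ≠ 0)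
    (h : O.Perp a c) : a ∈ Fx V g := by
  rw [← O.rr_eq hg hc hc0]; exact h

theorem Odd'.fx_inf_im (h : H) : Fx V h ⊓ Im V h = ⊥ := fx_inf_im_of_odd O.bin O.two h

theorem Odd'.im_sup_fx (h : H) : Im V h ⊔ Fx V h = ⊤ := by
  refine sup_eq_top_of_card (by rw [inf_comm]; exact O.fx_inf_im h) ?_
  rw [mul_comm, fx_im_card]

theorem Odd'.im_ne_bot {g : H} (hg : Mx V g) : ∃ a ∈ Im V g, a ≠ 0 := by
  obtain ⟨x, d, hd0, hx⟩ := exists_move (V := V) hg.ne
  exact ⟨d, mem_im.mpr ⟨x, hx⟩, hd0⟩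

theorem Odd'.not_im_le_fx {g : H} (hg : Mx V g) : ¬ Im V g ≤ Fx V g := fun h => by
  obtain ⟨a, ha, ha0⟩ := O.im_ne_bot hg
  have : a ∈ Fx V g ⊓ Im V g := ⟨h ha, ha⟩
  rw [O.fx_inf_im, AddSubgroup.mem_bot] at this
  exact ha0 this

/-- Reflections exist. -/
theorem Odd'.exists_refl {K I : AddSubgroup V} (hsup : K ⊔ I = ⊤)
    (hperp : ∀ k ∈ K, ∀ i ∈ I, O.Perp k i) :
    ∃ r : H, (∀ k ∈ K, r • k = k) ∧ ∀ i ∈ I, r • i = -i := by
  have hdec : ∀ v : V, ∃ q : K × I, (q.1 : V) + q.2 = v := fun v => by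
    obtain ⟨k, hk, i, hi, e⟩ := AddSubgroup.mem_sup.mp (hsup ▸ AddSubgroup.mem_top v)
    exact ⟨(⟨k, hk⟩, ⟨i, hi⟩), e⟩
  choose δ hδ using hdec
  have huniq : ∀ {k i : V}, k ∈ K → i ∈ I → ((δ (k + i)).1 : V) - (δ (k + i)).2 = k - i := by
    intro k i hk hi
    have e := hδ (k + i)
    have hz : ((δ (k + i)).1 : V) - k = i - (δ (k + i)).2 := by
      rw [sub_eq_sub_iff_add_eq_add, e]; abel
    have h0 : ((δ (k + i)).1 : V) - k = 0 := O.perp_self (hperp _ (K.sub_mem (δ (k + i)).1.2 hk) _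
      (by rw [hz]; exact I.sub_mem hi (δ (k + i)).2.2))
    have h1 : ((δ (k + i)).1 : V) = k := sub_eq_zero.mp h0
    rw [h0] at hz
    rw [h1, (sub_eq_zero.mp hz.symm).symm]
  obtain ⟨r, hr⟩ := O.bin Set.univ (fun v => ((δ v).1 : V) - (δ v).2) (by
    intro x _ y _
    refine ⟨O.rr (((δ x).2 : V) - (δ y).2), ?_⟩
    have hk : ((δ x).1 : V) - (δ y).1 ∈ K := K.sub_mem (δ x).1.2 (δ y).1.2
    have hi : ((δ x).2 : V) - (δ y).2 ∈ I := I.sub_mem (δ x).2.2 (δ y).2.2
    rw [show x - y = (((δ x).1 : V) - (δ y).1) + (((δ x).2 : V) - (δ y).2) by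
      nth_rewrite 1 [← hδ x]; nth_rewrite 1 [← hδ y]; abel,
      smul_add, O.rr_self, mem_fx.mp (hperp _ hk _ hi)]
    abel)
  have h0 : ((δ (0 + 0 : V)).1 : V) - (δ (0 + 0 : V)).2 = 0 - 0 := huniq K.zero_mem I.zero_mem
  rw [add_zero, sub_zero] at h0
  refine ⟨r, fun k hk => ?_, fun i hi => ?_⟩
  · have := hr k trivial 0 trivial
    rwa [sub_zero, h0, sub_zero, show k = k + 0 from (add_zero k).symm, huniq hk I.zero_mem,
      add_zero, sub_zero] at this
  · have := hr i trivial 0 trivial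
    rwa [sub_zero, h0, sub_zero, show i = 0 + i from (zero_add i).symm, huniq K.zero_mem hi,
      zero_add, zero_sub] at this

section Plane

variable {t s : H} (h : NC V t s)

include h

theorem Odd'.perp_yx {y x : V} (hy : y ∈ Yp V t s) (hx : x ∈ Xp V t s) : O.Perp y x := by
  obtain ⟨a, ha, a', ha', rfl⟩ := AddSubgroup.mem_sup.mp hx
  exact O.perp_add_right (O.perp_im hy.1 ha) (O.perp_im hy.2 ha')

theorem Odd'.im_le_x {w : H} (hw : Mx V w) (hY : Yp V t s ≤ Fx V w) : Im V w ≤ Xp V t s := by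
  intro a ha
  obtain ⟨x, hx, y, hy, rfl⟩ := h.decomp O.bin O.par a
  have hya : O.Perp y (x + y) := O.perp_im (hY hy) ha
  have hyy : O.Perp y y := by
    have := O.perp_sub_right hya (O.perp_yx h hy hx)
    rwa [add_sub_cancel_left] at this
  rw [O.perp_self hyy, add_zero]
  exact hx

theorem Odd'.fx_split {w : H} (hY : Yp V t s ≤ Fx V w) :
    Fx V w = (Fx V w ⊓ Xp V t s) ⊔ Yp V t s := by
  refine le_antisymm (fun v hv => ?_) (sup_le inf_le_left hY)
  obtain ⟨x, hx, y, hy, rfl⟩ := h.decomp O.bin O.par v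
  exact AddSubgroup.add_mem_sup ⟨by
    have := (Fx V w).sub_mem hv (hY hy)
    rwa [add_sub_cancel_right] at this, hx⟩ hy

theorem Odd'.card_fx_x {w : H} (hw : Mx V w) (hY : Yp V t s ≤ Fx V w) :
    Nat.card (Fx V w ⊓ Xp V t s : AddSubgroup V) = Nat.card (Im V t) := by
  have hd : (Fx V w ⊓ Xp V t s) ⊓ Yp V t s = ⊥ :=
    eq_bot_iff.mpr ((inf_le_inf_right _ inf_le_right).trans (h.disjoint O.bin O.par).le)
  have h1 : Nat.card (Fx V w) =
      Nat.card (Fx V w ⊓ Xp V t s : AddSubgroup V) * Nat.card (Yp V t s) := by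
    rw [← card_eq_mul_of_disjoint hd, ← O.fx_split h hY]
  have h2 : Nat.card V = Nat.card (Im V t) * Nat.card (Im V t) * Nat.card (Yp V t s) := by
    rw [← h.card_plane O.bin O.par, ← card_eq_mul_of_disjoint (h.disjoint O.bin O.par),
      h.sup_eq_top O.bin O.par, AddSubgroup.card_top]
  rw [← fx_im_card (V := V) w, h.card_im_of_le O.bin O.par hw hY, h1] at h2
  refine Nat.eq_of_mul_eq_mul_right
    (Nat.mul_pos (Nat.card_pos (α := Yp V t s)) (Nat.card_pos (α := Im V t))) ?_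
  rw [← mul_assoc, h2]
  ring

/-- The polar of a maximal element. -/
theorem Odd'.exists_pol {w : H} (hw : Mx V w) (hY : Yp V t s ≤ Fx V w) :
    ∃ v : H, Mx V v ∧ Yp V t s ≤ Fx V v ∧ Im V v = Fx V w ⊓ Xp V t s := by
  have hQ := h.card_im_of_le O.bin O.par hw hY
  have hXle : Im V w ≤ Xp V t s := O.im_le_x h hw hY
  have hd : Im V w ⊓ (Fx V w ⊓ Xp V t s) = ⊥ := by
    rw [eq_bot_iff]
    rintro z ⟨hz, hz', -⟩
    exact (O.fx_inf_im w).le ⟨hz', hz⟩
  have hX : Im V w ⊔ (Fx V w ⊓ Xp V t s) = Xp V t s := by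
    refine AddSubgroup.eq_of_le_of_card_ge (sup_le hXle inf_le_right) ?_
    rw [card_eq_mul_of_disjoint hd, O.card_fx_x h hw hY, hQ, h.card_plane O.bin O.par]
  obtain ⟨r, hrK, hrI⟩ := O.exists_refl (K := Im V w ⊔ Yp V t s) (I := Fx V w ⊓ Xp V t s)
    (by rw [sup_right_comm, hX, h.sup_eq_top O.bin O.par])
    (by
      rintro k hk i ⟨hiw, hiX⟩
      obtain ⟨a, ha, y, hy, rfl⟩ := AddSubgroup.mem_sup.mp hk
      exact (Fx V (O.rr i)).add_mem (O.perp_symm (O.perp_im hiw ha)) (O.perp_yx h hy hiX))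
  have hKr : Im V w ⊔ Yp V t s ≤ Fx V r := fun k hk => mem_fx.mpr (hrK k hk)
  have hr1 : r ≠ 1 := by
    intro e
    have hI : Fx V w ⊓ Xp V t s = ⊥ := by
      rw [eq_bot_iff]
      intro i hi
      have := hrI i hi
      rw [e, one_smul] at this
      exact O.two i (by nth_rewrite 1 [this]; exact neg_add_cancel i)
    have := O.card_fx_x h hw hY
    rw [hI, AddSubgroup.card_bot] at this
    obtain ⟨a, ha, ha0⟩ := O.im_ne_bot h.left
    exact ha0 (AddSubgroup.mem_bot.mp (AddSubgroup.eq_bot_of_card_eq (Im V t) this.symm ▸ ha))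
  obtain ⟨v, hv, hle⟩ := exists_mx (V := V) hr1
  have hYv : Yp V t s ≤ Fx V v := (le_sup_right.trans hKr).trans hle
  have hK : Im V w = Fx V v ⊓ Xp V t s :=
    AddSubgroup.eq_of_le_of_card_ge (le_inf ((le_sup_left.trans hKr).trans hle) hXle)
      (by rw [O.card_fx_x h hv hYv, hQ])
  refine ⟨v, hv, hYv, AddSubgroup.eq_of_le_of_card_ge (fun b hb => ?_) ?_⟩
  · refine ⟨?_, O.im_le_x h hv hYv hb⟩
    obtain ⟨a, ha, ha0⟩ := O.im_ne_bot hw
    exact O.fx_of_perp hw ha ha0 (O.perp_symm (O.perp_im (h := v) (hK ▸ ha).1 hb))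
  · rw [O.card_fx_x h hw hY, h.card_im_of_le O.bin O.par hv hYv]

/-- The polar, chosen. -/
noncomputable def Odd'.pol {w : H} (hw : Mx V w) (hY : Yp V t s ≤ Fx V w) : H :=
  (O.exists_pol h hw hY).choose

theorem Odd'.pol_mx {w : H} (hw : Mx V w) (hY : Yp V t s ≤ Fx V w) : Mx V (O.pol h hw hY) :=
  (O.exists_pol h hw hY).choose_spec.1

theorem Odd'.pol_y {w : H} (hw : Mx V w) (hY : Yp V t s ≤ Fx V w) :
    Yp V t s ≤ Fx V (O.pol h hw hY) :=
  (O.exists_pol h hw hY).choose_spec.2.1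

theorem Odd'.pol_im {w : H} (hw : Mx V w) (hY : Yp V t s ≤ Fx V w) :
    Im V (O.pol h hw hY) = Fx V w ⊓ Xp V t s :=
  (O.exists_pol h hw hY).choose_spec.2.2

theorem Odd'.pol_fx {w : H} (hw : Mx V w) (hY : Yp V t s ≤ Fx V w) :
    Im V w = Fx V (O.pol h hw hY) ⊓ Xp V t s := by
  refine AddSubgroup.eq_of_le_of_card_ge (fun a ha => ⟨?_, O.im_le_x h hw hY ha⟩) ?_
  · obtain ⟨b, hb, hb0⟩ := O.im_ne_bot (O.pol_mx h hw hY)
    exact O.fx_of_perp (O.pol_mx h hw hY) hb hb0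
      (O.perp_symm (O.perp_im (h := w) ((O.pol_im h hw hY) ▸ hb).1 ha))
  · rw [O.card_fx_x h (O.pol_mx h hw hY) (O.pol_y h hw hY), h.card_im_of_le O.bin O.par hw hY]

theorem Odd'.pol_commute {w : H} (hw : Mx V w) (hY : Yp V t s ≤ Fx V w) :
    O.pol h hw hY ≠ w ∧ Commute (O.pol h hw hY) w := by
  obtain ⟨a, ha, ha0⟩ := O.im_ne_bot hw
  have hf : a ∈ Fx V (O.pol h hw hY) := ((O.pol_fx h hw hY) ▸ ha).1
  refine ⟨fun e => ha0 ?_, hw.commute_of_inter O.bin ha hf ha0⟩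
  rw [e] at hf
  exact AddSubgroup.mem_bot.mp ((O.fx_inf_im w).le ⟨hf, ha⟩)

/-- A maximal element of the plane commuting with another is equal to it or its polar. -/
theorem Odd'.eq_pol {w w' : H} (hw : Mx V w) (hY : Yp V t s ≤ Fx V w) (hw' : Mx V w')
    (hY' : Yp V t s ≤ Fx V w') (hne : w' ≠ w) (hc : Commute w' w) : w' = O.pol h hw hY := by
  obtain ⟨a, ha, ha0⟩ := O.im_ne_bot hw'
  refine hw'.eq_of_im O.bin (O.pol_mx h hw hY) ha ?_ ha0
  rw [O.pol_im h hw hY]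
  exact ⟨hw.im_le_fx O.bin hw' hne.symm hc.symm ha, O.im_le_x h hw' hY' ha⟩

theorem Odd'.pol_pol {w : H} (hw : Mx V w) (hY : Yp V t s ≤ Fx V w) :
    O.pol h (O.pol_mx h hw hY) (O.pol_y h hw hY) = w :=
  (O.eq_pol h (O.pol_mx h hw hY) (O.pol_y h hw hY) hw hY (O.pol_commute h hw hY).1.symm
    (O.pol_commute h hw hY).2.symm).symm

/-- Every vector of the plane is in a commutator space. -/
theorem Odd'.spread_x {x : V} (hx : x ∈ Xp V t s) :
    ∃ w : H, Mx V w ∧ Yp V t s ≤ Fx V w ∧ x ∈ Im V w := by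
  obtain ⟨w, hw, hY, hxw⟩ := h.fix_x O.bin O.par hx
  exact ⟨_, O.pol_mx h hw hY, O.pol_y h hw hY, by rw [O.pol_im h hw hY]; exact ⟨hxw, hx⟩⟩

end Plane

end Cfsg.Agent.BinaryAffine
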