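import Cfsg.Agent.Lib.BinaryAffine.Basic

/-!
Binary affine groups: two non-commuting maximal involutions `t`, `s` split `V` into their common fixed space
`Y` and the sum `X` of their commutator spaces, and every vector is fixed by a maximal involution fixing `Y`.
-/

set_option autoImplicit false
set_option linter.unusedSectionVars false

namespace Cfsg.Agent.BinaryAffine

variable {H V : Type*} [Group H] [AddCommGroup V] [DistribMulAction H V] [FaithfulSMul H V]
  [Finite H] [Finite V]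

variable (V) in
/-- Elementary abelian, of exponent two or of odd exponent. -/
def Par : Prop := (∀ v : V, v + v = 0) ∨ (∀ v : V, v + v = 0 → v = 0)

theorem neg_of_two (h2 : ∀ v : V, v + v = 0) (v : V) : -v = v :=
  neg_eq_of_add_eq_zero_right (h2 v)

theorem mul_le_of_disjoint {U W X : AddSubgroup V} (hU : U ≤ X) (hW : W ≤ X) (hd : U ⊓ W = ⊥) :
    Nat.card U * Nat.card W ≤ Nat.card X := by
  rw [← Nat.card_prod]
  refine Nat.card_le_card_of_injective (fun q : U × W => (⟨q.1 + q.2, X.add_mem (hU q.1.2) (hW q.2.2)⟩ : X))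
    fun a b hab => ?_
  have h' : (a.1 : V) + a.2 = b.1 + b.2 := congrArg Subtype.val hab
  have hm : (a.1 : V) - b.1 ∈ U ⊓ W :=
    ⟨U.sub_mem a.1.2 b.1.2, by
      rw [sub_eq_sub_iff_add_eq_add.mpr (show (a.1 : V) + a.2 = b.2 + b.1 by rw [h', add_comm])]
      exact W.sub_mem b.2.2 a.2.2⟩
  rw [hd, AddSubgroup.mem_bot, sub_eq_zero] at hm
  exact Prod.ext (Subtype.ext hm) (Subtype.ext (add_left_cancel (hm ▸ h')))

theorem card_sup_le (U W : AddSubgroup V) :
    Nat.card (U ⊔ W : AddSubgroup V) ≤ Nat.card U * Nat.card W := by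
  rw [← Nat.card_prod]
  refine Nat.card_le_card_of_surjective
    (fun q : U × W => (⟨q.1 + q.2, AddSubgroup.add_mem_sup q.1.2 q.2.2⟩ : (U ⊔ W : AddSubgroup V))) ?_
  rintro ⟨v, hv⟩
  obtain ⟨u, hu, w, hw, rfl⟩ := AddSubgroup.mem_sup.mp hv
  exact ⟨(⟨u, hu⟩, ⟨w, hw⟩), rfl⟩

theorem card_eq_mul_of_disjoint {U W : AddSubgroup V} (hd : U ⊓ W = ⊥) :
    Nat.card (U ⊔ W : AddSubgroup V) = Nat.card U * Nat.card W :=
  le_antisymm (card_sup_le U W) (mul_le_of_disjoint le_sup_left le_sup_right hd)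

theorem sup_eq_top_of_card {U W : AddSubgroup V} (hd : U ⊓ W = ⊥)
    (hc : Nat.card V ≤ Nat.card U * Nat.card W) : U ⊔ W = ⊤ := by
  apply AddSubgroup.eq_top_of_le_card
  rw [card_eq_mul_of_disjoint hd]
  exact hc

variable (hb : Bin H V) (hp : Par V)

include hb

theorem fx_inf_im_of_odd (hodd : ∀ v : V, v + v = 0 → v = 0) (h : H) : Fx V h ⊓ Im V h = ⊥ := by
  rw [eq_bot_iff]
  rintro d ⟨hf, hi⟩
  obtain ⟨x, hx⟩ := mem_im.mp hi
  have h1 := mem_fx.mp (hd_fix hb hx hf)
  rw [hd_neg hb hx] at h1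
  rw [AddSubgroup.mem_bot]
  exact hodd d (by nth_rewrite 1 [← h1]; exact neg_add_cancel d)

theorem im_le_fx_of_two (h2 : ∀ v : V, v + v = 0) {t : H} (ht : Mx V t) : Im V t ≤ Fx V t :=
  fun a ha => mem_fx.mpr (by rw [ht.neg hb ha, neg_of_two h2])

omit hb

/-- Two non-commuting maximal elements. -/
structure NC (V : Type*) [AddCommGroup V] [DistribMulAction H V] (t s : H) : Prop where
  left : Mx V t
  right : Mx V s
  nc : ¬ Commute t s

theorem NC.symm {t s : H} (h : NC V t s) : NC V s t := ⟨h.right, h.left, fun hc => h.nc hc.symm⟩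

theorem NC.ne {t s : H} (h : NC V t s) : t ≠ s := fun e => h.nc (e ▸ Commute.refl _)

variable (V) in
/-- The common fixed space. -/
def Yp (t s : H) : AddSubgroup V := Fx V t ⊓ Fx V s

variable (V) in
/-- The plane. -/
def Xp (t s : H) : AddSubgroup V := Im V t ⊔ Im V s

include hb

theorem NC.im_inf_im {t s : H} (h : NC V t s) : Im V t ⊓ Im V s = ⊥ := by
  rw [eq_bot_iff]
  rintro a ⟨ha, ha'⟩
  by_contra h0
  exact h.ne (h.left.eq_of_im hb h.right ha ha' h0)

theorem NC.im_inf_fx {t s : H} (h : NC V t s) : Im V t ⊓ Fx V s = ⊥ := by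
  rw [eq_bot_iff]
  rintro a ⟨ha, ha'⟩
  by_contra h0
  exact h.nc (h.left.commute_of_inter hb ha ha' h0).symm

theorem NC.card_im {t s : H} (h : NC V t s) : Nat.card (Im V t) = Nat.card (Im V s) := by
  have key : ∀ {a b : H}, NC V a b → Nat.card (Im V a) ≤ Nat.card (Im V b) := by
    intro a b hab
    have h1 := mul_le_of_disjoint (X := ⊤) (le_top : Im V a ≤ ⊤) (le_top : Fx V b ≤ ⊤) (hab.im_inf_fx hb)
    rw [AddSubgroup.card_top, ← fx_im_card (V := V) b, mul_comm] at h1
    exact Nat.le_of_mul_le_mul_left h1 Nat.card_pos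
  exact le_antisymm (key h) (key h.symm)

theorem NC.fx_mul {t s : H} (h : NC V t s) : Fx V (t * s) = Yp V t s := by
  refine le_antisymm (fun v hv => ?_) (fun v hv => ?_)
  · rw [mem_fx, mul_smul] at hv
    have hsv : s • v = t • v := by
      have := congrArg (fun u => t • u) hv
      simpa [h.left.smul_smul hb] using this
    have h0 : s • v - v ∈ Im V t ⊓ Im V s :=
      ⟨mem_im.mpr ⟨v, by rw [hsv]; abel⟩, mem_im.mpr ⟨v, by abel⟩⟩
    rw [h.im_inf_im hb, AddSubgroup.mem_bot, sub_eq_zero] at h0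
    exact ⟨mem_fx.mpr (hsv ▸ h0), mem_fx.mpr h0⟩
  · rw [mem_fx, mul_smul, mem_fx.mp hv.2, mem_fx.mp hv.1]

theorem NC.im_mul_le {t s : H} (_h : NC V t s) : Im V (t * s) ≤ Xp V t s := by
  intro d hd'
  obtain ⟨x, hx⟩ := mem_im.mp hd'
  have : d = (t • (s • x) - s • x) + (s • x - x) := by
    rw [mul_smul] at hx
    rw [hx]; abel
  rw [this]
  exact AddSubgroup.add_mem_sup (mem_im.mpr ⟨s • x, by abel⟩) (mem_im.mpr ⟨x, by abel⟩)

include hp

theorem NC.disjoint {t s : H} (h : NC V t s) : Xp V t s ⊓ Yp V t s = ⊥ := by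
  rw [eq_bot_iff]
  rintro m ⟨hX, hY⟩
  obtain ⟨a, ha, a', ha', rfl⟩ := AddSubgroup.mem_sup.mp hX
  rw [AddSubgroup.mem_bot]
  rcases hp with h2 | hodd
  · have hat : a' ∈ Fx V t := by
      have := (Fx V t).sub_mem hY.1 (im_le_fx_of_two hb h2 h.left ha)
      rwa [add_sub_cancel_left] at this
    have e' : a' ∈ Im V s ⊓ Fx V t := ⟨ha', hat⟩
    rw [h.symm.im_inf_fx hb, AddSubgroup.mem_bot] at e'
    subst e'
    rw [add_zero] at hY ⊢
    have e : a ∈ Im V t ⊓ Fx V s := ⟨ha, hY.2⟩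
    rwa [h.im_inf_fx hb, AddSubgroup.mem_bot] at e
  · have hsa : s • a = a + a' + a' := by
      have e := mem_fx.mp hY.2
      rw [smul_add, h.right.neg hb ha', ← sub_eq_add_neg, sub_eq_iff_eq_add] at e
      exact e
    have hg : (t * s) • (-(a' + a') - a) = -(a' + a') - a + ((a + a') + (a + a')) := by
      have hsv : s • (-(a' + a') - a) = -a := by
        rw [smul_sub, smul_neg, smul_add, h.right.neg hb ha', hsa]; abel
      rw [mul_smul, hsv, smul_neg, h.left.neg hb ha]; abel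
    have hm : (a + a') + (a + a') ∈ Fx V (t * s) ⊓ Im V (t * s) :=
      ⟨(Fx V (t * s)).add_mem (by rw [h.fx_mul hb]; exact hY) (by rw [h.fx_mul hb]; exact hY),
        mem_im.mpr ⟨_, hg⟩⟩
    rw [fx_inf_im_of_odd hb hodd, AddSubgroup.mem_bot] at hm
    exact hodd _ hm

theorem NC.im_mul {t s : H} (h : NC V t s) : Im V (t * s) = Xp V t s := by
  refine AddSubgroup.eq_of_le_of_card_ge (h.im_mul_le hb) ?_
  have h1 := mul_le_of_disjoint (X := ⊤) (le_top : Xp V t s ≤ ⊤) (le_top : Yp V t s ≤ ⊤) (h.disjoint hb hp)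
  rw [AddSubgroup.card_top, ← fx_im_card (V := V) (t * s), h.fx_mul hb, mul_comm] at h1
  exact Nat.le_of_mul_le_mul_left h1 Nat.card_pos

theorem NC.sup_eq_top {t s : H} (h : NC V t s) : Xp V t s ⊔ Yp V t s = ⊤ := by
  refine sup_eq_top_of_card (h.disjoint hb hp) ?_
  rw [← h.im_mul hb hp, ← h.fx_mul hb, mul_comm, fx_im_card]

theorem NC.decomp {t s : H} (h : NC V t s) (v : V) : ∃ x ∈ Xp V t s, ∃ y ∈ Yp V t s, x + y = v :=
  AddSubgroup.mem_sup.mp (h.sup_eq_top hb hp ▸ AddSubgroup.mem_top v)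

theorem NC.card_plane {t s : H} (h : NC V t s) :
    Nat.card (Xp V t s) = Nat.card (Im V t) * Nat.card (Im V t) := by
  rw [Xp, card_eq_mul_of_disjoint (h.im_inf_im hb), ← h.card_im hb]

theorem NC.fix_x {t s : H} (h : NC V t s) {x : V} (hx : x ∈ Xp V t s) :
    ∃ w : H, Mx V w ∧ Yp V t s ≤ Fx V w ∧ x ∈ Fx V w := by
  by_cases hx0 : x = 0
  · exact ⟨t, h.left, inf_le_left, hx0 ▸ (Fx V t).zero_mem⟩
  suffices ∃ k : H, k ≠ 1 ∧ Yp V t s ≤ Fx V k ∧ x ∈ Fx V k by
    obtain ⟨k, hk, hY, hxk⟩ := this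
    obtain ⟨w, hw, hle⟩ := exists_mx (V := V) hk
    exact ⟨w, hw, hY.trans hle, hle hxk⟩
  have hdisj := h.disjoint hb hp
  rcases hp with h2 | hodd
  · obtain ⟨v, hv⟩ := mem_im.mp (h.im_mul hb (Or.inl h2) ▸ hx : x ∈ Im V (t * s))
    refine ⟨hd hb x, hd_ne_one hb hx0 hv, ?_, ?_⟩
    · rw [← h.fx_mul hb]; exact hd_fix hb hv
    · rw [mem_fx, hd_neg hb hv, neg_of_two h2]
  · let g : H := t * s
    have hgX : ∀ u ∈ Xp V t s, g • u ∈ Xp V t s := by
      intro u hu
      rw [← h.im_mul hb (Or.inr hodd)] at hu ⊢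
      exact im_smul_of_commute (Commute.refl g) hu
    let φ : Xp V t s → Xp V t s := fun u =>
      ⟨g • (u : V) + u, (Xp V t s).add_mem (hgX u u.2) u.2⟩
    have hinj : Function.Injective φ := by
      rintro ⟨u, hu⟩ ⟨u', hu'⟩ e
      have e' : g • u + u = g • u' + u' := congrArg Subtype.val e
      have hz : g • (u - u') = -(u - u') := by
        refine eq_neg_of_add_eq_zero_left ?_
        rw [smul_sub]
        calc g • u - g • u' + (u - u') = (g • u + u) - (g • u' + u') := by abel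
          _ = 0 := by rw [e', sub_self]
      set z := u - u'
      have hsz : s • z = -(t • z) := by
        rw [mul_smul] at hz
        have := congrArg (fun w => t • w) hz
        simpa [h.left.smul_smul hb] using this
      have h1 : s • z + z ∈ Fx V s := by
        rw [mem_fx, smul_add, h.right.smul_smul hb]; abel
      have h2 : s • z + z ∈ Im V t := by
        have : s • z + z = -(t • z - z) := by rw [hsz]; abel
        rw [this]
        exact (Im V t).neg_mem (mem_im.mpr ⟨z, by abel⟩)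
      have h0 : s • z + z ∈ Im V t ⊓ Fx V s := ⟨h2, h1⟩
      rw [h.im_inf_fx hb, AddSubgroup.mem_bot] at h0
      have htz : t • z = z := by
        have := eq_neg_of_add_eq_zero_left h0
        rw [hsz, neg_inj] at this
        exact this
      have h3 : z + z ∈ Im V s ⊓ Fx V t :=
        ⟨mem_im.mpr ⟨-z, by rw [smul_neg, eq_neg_of_add_eq_zero_left h0]; abel⟩,
          (Fx V t).add_mem (mem_fx.mpr htz) (mem_fx.mpr htz)⟩
      rw [h.symm.im_inf_fx hb, AddSubgroup.mem_bot] at h3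
      exact Subtype.ext (sub_eq_zero.mp (hodd _ h3))
    obtain ⟨⟨u, hu⟩, hu'⟩ := Finite.surjective_of_injective hinj ⟨x, hx⟩
    have hxe : g • u + u = x := congrArg Subtype.val hu'
    set d : V := g • u - u with hd'
    have hgu : g • u = u + d := by rw [hd']; abel
    have hd0 : d ≠ 0 := by
      intro e
      apply hx0
      rw [e, add_zero] at hgu
      have h0 : u ∈ Xp V t s ⊓ Yp V t s := ⟨hu, by rw [← h.fx_mul hb]; exact mem_fx.mpr hgu⟩
      rw [hdisj, AddSubgroup.mem_bot] at h0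
      rw [← hxe, hgu, h0, add_zero]
    refine ⟨hd hb d, hd_ne_one hb hd0 hgu, ?_, ?_⟩
    · rw [← h.fx_mul hb]; exact hd_fix hb hgu
    · rw [mem_fx, ← hxe, smul_add, hgu, hd_swap hb hgu, hd_spec hb hgu]
      abel

/-- Every vector is fixed by a maximal element fixing the common fixed space. -/
theorem NC.cover {t s : H} (h : NC V t s) (v : V) :
    ∃ w : H, Mx V w ∧ Yp V t s ≤ Fx V w ∧ v ∈ Fx V w := by
  obtain ⟨x, hx, y, hy, rfl⟩ := h.decomp hb hp v
  obtain ⟨w, hw, hY, hxw⟩ := h.fix_x hb hp hx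
  exact ⟨w, hw, hY, (Fx V w).add_mem hxw (hY hy)⟩

/-- No maximal element fixing `Y` centralises both generators unless it is one of them. -/
theorem NC.not_both {t s : H} (h : NC V t s) {w : H} (hw : Mx V w) (hY : Yp V t s ≤ Fx V w)
    (hwt : w ≠ t) (hws : w ≠ s) (hct : Commute w t) (hcs : Commute w s) : False := by
  apply hw.ne
  refine ext_smul (V := V) fun v => ?_
  obtain ⟨x, hx, y, hy, rfl⟩ := h.decomp hb hp v
  obtain ⟨a, ha, a', ha', rfl⟩ := AddSubgroup.mem_sup.mp hx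
  rw [one_smul, smul_add, smul_add, mem_fx.mp (hY hy), mem_fx.mp (hw.im_le_fx hb h.left hwt hct ha),
    mem_fx.mp (hw.im_le_fx hb h.right hws hcs ha')]

/-- All maximal elements fixing `Y` move a space of the same size. -/
theorem NC.card_im_of_le {t s : H} (h : NC V t s) {w : H} (hw : Mx V w) (hY : Yp V t s ≤ Fx V w) :
    Nat.card (Im V w) = Nat.card (Im V t) := by
  by_cases hwt : w = t
  · rw [hwt]
  by_cases hws : w = s
  · rw [hws, h.card_im hb]
  by_cases hct : Commute w t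
  · by_cases hcs : Commute w s
    · exact (h.not_both hb hp hw hY hwt hws hct hcs).elim
    · rw [NC.card_im hb ⟨hw, h.right, hcs⟩, h.card_im hb]
  · exact NC.card_im hb ⟨hw, h.left, hct⟩

end Cfsg.Agent.BinaryAffine
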