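import Cfsg.Agent.Lib.BinaryAffine.Count

/-!
Binary irreducible affine groups in characteristic two: distinct conjugate maximal involutions never commute,
so two of them generate everything and `|V| = Q²`.
-/

set_option autoImplicit false
set_option linter.unusedSectionVars false

namespace Cfsg.Agent.BinaryAffine

variable {H V : Type*} [Group H] [AddCommGroup V] [DistribMulAction H V] [FaithfulSMul H V]
  [Finite H] [Finite V]

variable (h2 : ∀ v : V, v + v = 0)

include h2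

/-- A two-element preserving a non-trivial subgroup fixes one of its non-zero vectors. -/
theorem fixed_of_two_pow (U : AddSubgroup V) : ∀ (k : ℕ) (h : H), h ^ 2 ^ k = 1 →
    (∀ u ∈ U, h • u ∈ U) → ∀ u ∈ U, u ≠ 0 → ∃ z ∈ U, z ≠ 0 ∧ h • z = z := by
  intro k
  induction k with
  | zero =>
    intro h hh _ u hu hu0
    rw [pow_zero, pow_one] at hh
    exact ⟨u, hu, hu0, by rw [hh, one_smul]⟩
  | succ k ih =>
    intro h hh hU u hu hu0
    obtain ⟨z, hz, hz0, hzf⟩ := ih (h ^ 2) (by rwa [← pow_mul, ← pow_succ'])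
      (fun u hu => by rw [pow_two, mul_smul]; exact hU _ (hU u hu)) u hu hu0
    rw [pow_two, mul_smul] at hzf
    by_cases e : h • z = z
    · exact ⟨z, hz, hz0, e⟩
    refine ⟨h • z + z, U.add_mem (hU z hz) hz, fun e0 => e ?_, by rw [smul_add, hzf, add_comm]⟩
    rw [eq_neg_of_add_eq_zero_left e0, neg_of_two h2]

variable (hb : Bin H V)

include hb

theorem Mx.isConj_of_nc {t s : H} (h : NC V t s) : ∃ k : H, k * t * k⁻¹ = s := by
  set g : H := t * s with hg
  have htg : t * g * t = g⁻¹ := by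
    rw [hg, ← mul_assoc, h.left.sq hb, one_mul, mul_inv_rev, h.left.inv_eq hb, h.right.inv_eq hb]
  have hpow : ∀ n : ℕ, t * g ^ n = (g ^ n)⁻¹ * t := by
    intro n
    have e : t * g = g⁻¹ * t := by rw [← htg, mul_assoc, h.left.sq hb, mul_one]
    induction n with
    | zero => simp
    | succ n ih =>
      rw [← inv_pow] at ih ⊢
      rw [pow_succ g n, pow_succ g⁻¹ n, ← mul_assoc, ih, mul_assoc, e, mul_assoc]
  have hcomm : ∀ n : ℕ, Commute (g ^ n) g := fun n => Commute.pow_self g n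
  rcases Nat.even_or_odd (orderOf g) with ⟨k, hk⟩ | ⟨k, hk⟩
  · exfalso
    have hk0 : 0 < k := by have := orderOf_pos g; omega
    set z := g ^ k with hz
    have hz1 : z ≠ 1 := pow_ne_one_of_lt_orderOf hk0.ne' (by omega)
    have hz2 : z * z = 1 := by rw [hz, ← pow_add, ← hk, pow_orderOf_eq_one]
    have hzt : Commute z t := by
      show z * t = t * z
      rw [hz, hpow, ← hz, inv_eq_of_mul_eq_one_right hz2]
    have hzs : Commute z s := by
      have : s = t * g := by rw [hg, ← mul_assoc, h.left.sq hb, one_mul]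
      rw [this]
      exact hzt.mul_right (hcomm k)
    have hYz : Yp V t s ≤ Fx V z := fun y hy => by
      rw [← h.fx_mul hb, ← hg] at hy
      rw [mem_fx, hz]
      clear_value g
      clear hz hz1 hz2 hzt hzs hk hk0 z
      induction k with
      | zero => rw [pow_zero, one_smul]
      | succ k ih => rw [pow_succ, mul_smul, mem_fx.mp hy, ih]
    have hfix : ∀ {a : H}, Mx V a → Commute z a → ∃ d ∈ Im V a, d ≠ 0 ∧ d ∈ Fx V z := by
      intro a ha hc
      obtain ⟨x, d, hd0, hx⟩ := exists_move (V := V) ha.ne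
      obtain ⟨e, he, he0, hef⟩ := fixed_of_two_pow h2 (Im V a) 1 z (by rw [pow_one, pow_two]; exact hz2)
        (fun u hu => im_smul_of_commute hc hu) d (mem_im.mpr ⟨x, hx⟩) hd0
      exact ⟨e, he, he0, mem_fx.mpr hef⟩
    obtain ⟨d, hd', hd0, hdz⟩ := hfix h.left hzt
    obtain ⟨e, he', he0, hez⟩ := hfix h.right hzs
    obtain ⟨w, hw, hle⟩ := exists_mx (V := V) hz1
    have hwt : w ≠ t := fun q => by
      have : e ∈ Im V s ⊓ Fx V t := ⟨he', q ▸ hle hez⟩
      rw [h.symm.im_inf_fx hb, AddSubgroup.mem_bot] at this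
      exact he0 this
    have hws : w ≠ s := fun q => by
      have : d ∈ Im V t ⊓ Fx V s := ⟨hd', q ▸ hle hdz⟩
      rw [h.im_inf_fx hb, AddSubgroup.mem_bot] at this
      exact hd0 this
    exact h.not_both hb (Or.inl h2) hw (hYz.trans hle) hwt hws
      (h.left.commute_of_inter hb hd' (hle hdz) hd0) (h.right.commute_of_inter hb he' (hle hez) he0)
  · refine ⟨g ^ k, ?_⟩
    rw [mul_assoc, ← inv_pow, inv_pow, show t * (g ^ k)⁻¹ = g ^ k * t from ?_, ← mul_assoc, ← pow_add]
    · have e : g ^ (k + k) = g⁻¹ := by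
        rw [eq_inv_iff_mul_eq_one, ← pow_succ, show k + k + 1 = orderOf g by omega, pow_orderOf_eq_one]
      rw [e, ← htg, mul_assoc, h.left.sq hb, mul_one, hg, ← mul_assoc, h.left.sq hb, one_mul]
    · calc t * (g ^ k)⁻¹ = t * ((g ^ k)⁻¹ * t) * t := by
            rw [mul_assoc, mul_assoc, h.left.sq hb, mul_one]
        _ = t * (t * g ^ k) * t := by rw [hpow k]
        _ = g ^ k * t := by rw [← mul_assoc t t, h.left.sq hb, one_mul]

/-- Distinct conjugate maximal elements do not commute. -/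
theorem Mx.not_commute_conj {t : H} (ht : Mx V t) (k : H) (hne : k * t * k⁻¹ ≠ t) :
    ¬ Commute (k * t * k⁻¹) t := by
  intro hc
  set u := k * t * k⁻¹ with hu'
  have hu : Mx V u := ht.conj k
  obtain ⟨x, a, ha0, hx⟩ := exists_move (V := V) ht.ne
  have ha : a ∈ Im V t := mem_im.mpr ⟨x, hx⟩
  set b := k • a with hb'
  have hbI : b ∈ Im V u := by rw [hu', im_conj, hb', inv_smul_smul]; exact ha
  have hka : k • a = a + (a + b) := by rw [← add_assoc, h2, zero_add]
  set h := hd hb (a + b) with hh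
  have h1 : h • a = b := by rw [hd_spec hb hka, ← add_assoc, h2, zero_add]
  have h1' : h • b = a := by
    have := hd_swap hb hka
    rwa [← add_assoc, h2, zero_add] at this
  have hab : a ≠ b := fun e => hne (hu.eq_of_im hb ht hbI (e ▸ ha) (e ▸ ha0))
  obtain ⟨n, m, hm, hnm⟩ := Nat.exists_eq_two_pow_mul_odd (orderOf_pos h).ne'
  set j := h ^ m with hj
  have hja : ∀ n : ℕ, h ^ (2 * n) • a = a := by
    intro n
    induction n with
    | zero => simp
    | succ n ih => rw [Nat.mul_succ, pow_add, mul_smul, pow_two, mul_smul, h1, h1', ih]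
  have hj1 : j • a = b := by
    obtain ⟨r, rfl⟩ := hm
    rw [hj, pow_succ', mul_smul, hja, h1]
  have hj2 : j • b = a := by
    obtain ⟨r, rfl⟩ := hm
    rw [hj, pow_succ, mul_smul, h1', hja]
  have hjpow : j ^ 2 ^ n = 1 := by
    rw [hj, ← pow_mul, mul_comm, ← hnm, pow_orderOf_eq_one]
  have hb0 : b ≠ 0 := fun e => ha0 (by rw [← hj2, e, smul_zero])
  have cj1 : j * t * j⁻¹ = u := (ht.conj j).eq_of_im hb hu (d := b)
    (by rw [im_conj, ← hj1, inv_smul_smul]; exact ha) hbI hb0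
  have cj2 : j * u * j⁻¹ = t := (hu.conj j).eq_of_im hb ht (d := a)
    (by rw [im_conj, ← hj2, inv_smul_smul]; exact hbI) ha ha0
  have cj : Commute j (t * u) := by
    show j * (t * u) = t * u * j
    have e : j * (t * u) * j⁻¹ = t * u := by
      rw [show j * (t * u) * j⁻¹ = (j * t * j⁻¹) * (j * u * j⁻¹) by group, cj1, cj2]
      exact hc
    exact mul_inv_eq_iff_eq_mul.mp e
  have htu : t * u ≠ 1 := fun e => hne (by
    rw [← ht.inv_eq hb]
    exact (inv_eq_of_mul_eq_one_right e).symm)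
  obtain ⟨x', d', hd0', hx'⟩ := exists_move (V := V) htu
  obtain ⟨d, hd', hd0, hjd⟩ := fixed_of_two_pow h2 (Im V (t * u)) n j hjpow
    (fun w hw => im_smul_of_commute cj hw) d' (mem_im.mpr ⟨x', hx'⟩) hd0'
  have hsub : Im V (t * u) ≤ Im V t ⊔ Im V u := by
    intro w hw
    obtain ⟨y, hy⟩ := mem_im.mp hw
    rw [mul_smul] at hy
    rw [show w = (t • (u • y) - u • y) + (u • y - y) by rw [hy]; abel]
    exact AddSubgroup.add_mem_sup (mem_im.mpr ⟨u • y, by abel⟩) (mem_im.mpr ⟨y, by abel⟩)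
  obtain ⟨p, hp', q, hq, rfl⟩ := AddSubgroup.mem_sup.mp (hsub hd')
  have hjp : j • p ∈ Im V u := by rw [← cj1, im_conj, inv_smul_smul]; exact hp'
  have hjq : j • q ∈ Im V t := by rw [← cj2, im_conj, inv_smul_smul]; exact hq
  rw [smul_add] at hjd
  have hpq : j • p = q := by
    have hz : j • p - q ∈ Im V t ⊓ Im V u := by
      refine ⟨?_, (Im V u).sub_mem hjp hq⟩
      rw [show j • p - q = p - j • q by
        rw [sub_eq_sub_iff_add_eq_add]; exact hjd]
      exact (Im V t).sub_mem hp' hjq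
    by_contra hn
    exact hne (ht.eq_of_im hb hu hz.1 hz.2 (sub_ne_zero.mpr hn)).symm
  obtain ⟨y, hy⟩ := mem_im.mp hd'
  have hpf : p ∈ Fx V (t * u) := by
    rw [mem_fx, mul_smul, mem_fx.mp (hu.im_le_fx hb ht hne hc hp'), ht.neg hb hp', neg_of_two h2]
  have h3 := mem_fx.mp (hd_fix hb hy hpf)
  have h4 : hd hb (p + q) • p = p + (p + q) :=
    hd_spec hb (h := j) (by rw [hpq, ← add_assoc, h2, zero_add])
  rw [h3, left_eq_add] at h4
  exact hd0 h4

variable (hirr : Irr H V)

include hirr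

/-- A maximal element has one not commuting with it. -/
theorem Mx.exists_nc {t : H} (ht : Mx V t) : ∃ k : H, NC V (k * t * k⁻¹) t := by
  by_contra hc
  have hall : ∀ k : H, k * t * k⁻¹ = t := fun k => by
    by_contra hne
    exact hc ⟨k, ht.conj k, ht, ht.not_commute_conj h2 hb k hne⟩
  rcases hirr (Fx V t) (fun k v hv => fx_smul_of_commute (mul_inv_eq_iff_eq_mul.mp (hall k)) hv) with e | e
  · obtain ⟨x, d, hd0, hx⟩ := exists_move (V := V) ht.ne
    have := im_le_fx_of_two hb h2 ht (mem_im.mpr ⟨x, hx⟩ : d ∈ Im V t)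
    rw [e, AddSubgroup.mem_bot] at this
    exact hd0 this
  · exact ht.ne (ext_smul (V := V) fun v => by
      rw [one_smul]; exact mem_fx.mp (e ▸ AddSubgroup.mem_top v))

/-- Everything not centralising `t` lies over the same plane. -/
theorem NC.mem_of_nc_left {t s : H} (h : NC V t s) {q : H} (hq : Mx V q) (hnc : ¬ Commute q t) :
    Yp V t s ≤ Fx V q := by
  by_contra hY
  obtain ⟨x, a, ha0, hx⟩ := exists_move (V := V) hq.ne
  have ha : a ∈ Im V q := mem_im.mpr ⟨x, hx⟩
  obtain ⟨w, hw, hYw, haw⟩ := h.cover hb (Or.inl h2) a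
  have hwq : Commute w q := hq.commute_of_inter hb ha haw ha0
  have hne : w ≠ q := fun e => hY (e ▸ hYw)
  obtain ⟨k₁, hk₁⟩ := Mx.isConj_of_nc h2 hb ⟨hq, h.left, hnc⟩
  -- `w` is conjugate to `t`
  have hwt : ∃ k : H, k * t * k⁻¹ = w := by
    by_cases e1 : w = t
    · exact ⟨1, by simp [e1]⟩
    by_cases c1 : Commute w t
    · by_cases e2 : w = s
      · exact e2 ▸ Mx.isConj_of_nc h2 hb h
      by_cases c2 : Commute w s
      · exact (h.not_both hb (Or.inl h2) hw hYw e1 e2 c1 c2).elim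
      · obtain ⟨a1, h1⟩ := Mx.isConj_of_nc h2 hb h
        obtain ⟨a2, h2'⟩ := Mx.isConj_of_nc h2 hb ⟨h.right, hw, fun c => c2 c.symm⟩
        exact ⟨a2 * a1, by rw [← h2', ← h1]; group⟩
    · exact Mx.isConj_of_nc h2 hb ⟨h.left, hw, fun c => c1 c.symm⟩
  obtain ⟨k₂, hk₂⟩ := hwt
  refine hq.not_commute_conj h2 hb (k₂ * k₁) ?_ ?_
  all_goals rw [show k₂ * k₁ * q * (k₂ * k₁)⁻¹ = w by rw [← hk₂, ← hk₁]; group]
  · exact hne
  · exact hwq

theorem exists_planar (hne : ∃ h : H, h ≠ 1) : ∃ Q, Planar H V Q := by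
  obtain ⟨h₀, hh₀⟩ := hne
  obtain ⟨t, ht, -⟩ := exists_mx (V := V) hh₀
  obtain ⟨k, hk⟩ := Mx.exists_nc h2 hb hirr ht
  set s := k * t * k⁻¹ with hs
  have h : NC V t s := hk.symm
  -- the common fixed space is trivial
  have hY : Yp V t s = ⊥ := by
    let U : AddSubgroup V := ⨅ j : H, Fx V (j * t * j⁻¹)
    have hU : ∀ j : H, ∀ u ∈ U, j • u ∈ U := by
      intro j u hu
      rw [AddSubgroup.mem_iInf] at hu ⊢
      intro i
      rw [fx_conj, ← mul_smul]
      have := hu (j⁻¹ * i)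
      rw [fx_conj] at this
      simpa [mul_inv_rev, mul_assoc] using this
    have hYU : Yp V t s ≤ U := le_iInf fun j => by
      by_cases e : j * t * j⁻¹ = t
      · rw [e]; exact inf_le_left
      · exact h.mem_of_nc_left h2 hb hirr (ht.conj j) (ht.not_commute_conj h2 hb j e)
    rcases hirr U hU with e | e
    · exact eq_bot_iff.mpr (e ▸ hYU)
    · refine absurd (ext_smul (V := V) fun v => ?_) ht.ne
      have := (AddSubgroup.mem_iInf.mp (e ▸ AddSubgroup.mem_top v : v ∈ U)) 1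
      rw [one_mul, inv_one, mul_one, mem_fx] at this
      rw [one_smul, this]
  set Q := Nat.card (Im V t)
  have hcard : Nat.card V = Q * Q := by
    rw [← h.card_plane hb (Or.inl h2)]
    have := h.sup_eq_top hb (Or.inl h2)
    rw [hY, sup_bot_eq] at this
    rw [this, AddSubgroup.card_top]
  have himQ : ∀ w : H, Mx V w → Nat.card (Im V w) = Q := fun w hw =>
    h.card_im_of_le hb (Or.inl h2) hw (hY ▸ bot_le)
  have h1Q : 1 < Q := by
    obtain ⟨x, d, hd0, hx⟩ := exists_move (V := V) ht.ne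
    rw [Finite.one_lt_card_iff_nontrivial, AddSubgroup.nontrivial_iff_ne_bot]
    intro e
    exact hd0 (AddSubgroup.mem_bot.mp (e ▸ (mem_im.mpr ⟨x, hx⟩ : d ∈ Im V t)))
  have hfxQ : ∀ w : H, Mx V w → Fx V w = Im V w := fun w hw => by
    refine (AddSubgroup.eq_of_le_of_card_ge (im_le_fx_of_two hb h2 hw) ?_).symm
    have e := fx_im_card (V := V) w
    rw [himQ w hw, hcard] at e
    rw [himQ w hw, Nat.eq_of_mul_eq_mul_right (by omega) e]
  have hfixed : ∀ z : V, z ≠ 0 → ∃ w : H, Mx V w ∧ z ∈ Fx V w := fun z _ => by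
    obtain ⟨w, hw, -, hz⟩ := h.cover hb (Or.inl h2) z
    exact ⟨w, hw, hz⟩
  have huniq : ∀ z : V, z ≠ 0 → ∀ w w' : H, Mx V w → Mx V w' → z ∈ Fx V w → z ∈ Fx V w' → w = w' :=
    fun z hz w w' hw hw' hzw hzw' => hw.eq_of_im hb hw' (hfxQ w hw ▸ hzw) (hfxQ w' hw' ▸ hzw') hz
  refine ⟨Q, hcard, h1Q, himQ, fun z hz => ?_, hfixed, huniq, ?_⟩
  · obtain ⟨w, hw, hz'⟩ := hfixed z hz
    exact ⟨w, hw, hfxQ w hw ▸ hz'⟩
  · intro z hz g w hw hzg hzw d hd'
    by_cases hd0 : d = 0
    · subst hd0; exact (Im V w).zero_mem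
    obtain ⟨x, hx⟩ := mem_im.mp hd'
    obtain ⟨w', hw', hle⟩ := exists_mx (V := V) (hd_ne_one hb hd0 hx)
    have e : w' = w := huniq z hz w' w hw' hw (hle (hd_fix hb hx hzg)) hzw
    rw [← hfxQ w hw, ← e]
    exact hle (mem_fx.mpr (by rw [hd_neg hb hx, neg_of_two h2]))

end Cfsg.Agent.BinaryAffine
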